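import Cfsg.Agent.Lib.KnownB.D4Square.BigCell
import Cfsg.Agent.Lib.Chev.OrthTables
import Cfsg.Agent.Lib.Chev.TwistPerfect

/-!
# The twisted triality model maps onto `³D₄(q)`
-/

set_option autoImplicit false
set_option maxRecDepth 100000
set_option maxHeartbeats 1000000

namespace CfsgLib.KnownB.D4Square

open Matrix Cfsg.Lie CfsgLib.Chev CfsgLib.Chev.OE CfsgLib.NormalCover CfsgLib.KnownB.G2Square

local notation "ι8" => Fin 4 ⊕ Fin 4

/-- The Zorn numbering of the coordinates of type `D₄`. -/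
def z8 : ι8 ≃ Fin 8 where
  toFun := Sum.elim ![3, 5, 4, 0] ![6, 2, 1, 7]
  invFun := ![.inl 3, .inr 2, .inr 1, .inl 0, .inl 2, .inl 1, .inr 0, .inr 3]
  left_inv := by decide
  right_inv := by decide

/-- The signs of the change of coordinates. -/
def sg : Fin 8 → ℤ := ![1, 1, 1, 1, 1, 1, 1, -1]

/-- The change of coordinates. -/
def toZ {R : Type*} [CommRing R] (A : Matrix ι8 ι8 R) : Matrix (Fin 8) (Fin 8) R :=
  Matrix.of fun i j => (sg i : R) * (sg j : R) * A (z8.symm i) (z8.symm j)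

theorem toZ_mul {R : Type*} [CommRing R] (A B : Matrix ι8 ι8 R) : toZ (A * B) = toZ A * toZ B := by
  ext i j
  simp only [toZ, Matrix.of_apply, Matrix.mul_apply, Finset.mul_sum]
  rw [← Equiv.sum_comp z8.symm]
  refine Finset.sum_congr rfl fun k _ => ?_
  have hk : (sg k : R) * (sg k : R) = 1 := by
    fin_cases k <;> simp [sg]
  linear_combination -(sg i : R) * (sg j : R) * A (z8.symm i) (z8.symm k) * B (z8.symm k) (z8.symm j) * hk

variable {F K : Type*} [Field F] [Field K] {S : Tw F K}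

/-- The representation of the coordinate module, in Zorn's coordinates. -/
noncomputable def lvZ (v : chevD4.Idx → K) : Matrix (Fin 8) (Fin 8) K :=
  toZ (lv (D := chevD4) numD4 orthD4Tab v)

/-- A root element in Zorn's coordinates. -/
noncomputable def uZ (r : ℕ) (t : K) : Matrix (Fin 8) (Fin 8) K := toZ (uM numD4 orthD4Tab r K t)

theorem uZ_lvZ {r : ℕ} (hr : r < chevD4.nroots) (t : K) (v : chevD4.Idx → K) :
    uZ r t * lvZ v = lvZ (chevD4.x K r t *ᵥ v) * uZ r t := by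
  rw [uZ, lvZ, lvZ, ← toZ_mul, ← toZ_mul,
    uM_lv (by decide +kernel) orthD4_checkL hr (allR_upto orthD4_root hr) t v]

/-- The eight root elements. -/
def cell : ℕ → (Fin 8 × Fin 8 × ℤ) × (Fin 8 × Fin 8 × ℤ)
  | 18 => ((3, 5, 1), (2, 6, -1))
  | 13 => ((4, 0, 1), (7, 1, 1))
  | 12 => ((0, 1, -1), (4, 7, -1))
  | 5 => ((5, 3, 1), (6, 2, -1))
  | 10 => ((0, 4, 1), (1, 7, 1))
  | 11 => ((7, 4, -1), (1, 0, -1))
  | 14 => ((5, 4, 1), (1, 2, -1))
  | _ => ((4, 5, 1), (2, 1, -1))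

theorem cell_spec : ∀ r ∈ [18, 13, 12, 5, 10, 11, 14, 9],
    toZ (smat numD4.e (orthD4Tab.UA r)) =
      Matrix.single (cell r).1.1 (cell r).1.2.1 (cell r).1.2.2 +
        Matrix.single (cell r).2.1 (cell r).2.2.1 (cell r).2.2.2 ∧
      toZ (smat numD4.e (orthD4Tab.UB r)) = 0 := by
  decide +kernel

theorem uZ_mulVec {r : ℕ} (hr : r ∈ [18, 13, 12, 5, 10, 11, 14, 9]) (t : K) (x : Fin 8 → K) :
    uZ r t *ᵥ x = x + t • (Pi.single (cell r).1.1 ((((cell r).1.2.2 : ℤ) : K) * x (cell r).1.2.1) +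
      Pi.single (cell r).2.1 ((((cell r).2.2.2 : ℤ) : K) * x (cell r).2.2.1)) := by
  have e : uZ r t = 1 + t • (Matrix.single (cell r).1.1 (cell r).1.2.1 (((cell r).1.2.2 : ℤ) : K) +
      Matrix.single (cell r).2.1 (cell r).2.2.1 (((cell r).2.2.2 : ℤ) : K)) := by
    ext i j
    obtain ⟨hA, hB⟩ := cell_spec r hr
    have hA' := congrArg (Int.cast : ℤ → K) (congrFun (congrFun hA i) j)
    have hB' := congrArg (Int.cast : ℤ → K) (congrFun (congrFun hB i) j)
    simp only [toZ, Matrix.of_apply, Int.cast_mul, Int.cast_add, Int.cast_zero, apply_ite (Int.cast : ℤ → K),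
      Int.cast_id] at hA' hB'
    have hs : (sg i : K) * (sg j : K) * (1 : Matrix ι8 ι8 K) (z8.symm i) (z8.symm j) =
        (1 : Matrix (Fin 8) (Fin 8) K) i j := by
      rcases eq_or_ne i j with rfl | h
      · fin_cases i <;> simp [sg]
      · rw [Matrix.one_apply_ne h, Matrix.one_apply_ne (fun e => h (z8.symm.injective e)), mul_zero]
    simp only [uZ, toZ, uM, uMat, Matrix.of_apply, Matrix.add_apply, Matrix.smul_apply, Matrix.map_apply,
      smul_eq_mul, Matrix.single_apply, eq_comm (a := (cell r).1.1), eq_comm (a := (cell r).1.2.1),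
      eq_comm (a := (cell r).2.1), eq_comm (a := (cell r).2.2.1)] at hA' hB' ⊢
    simp only [Matrix.zero_apply, Int.cast_add, Int.cast_zero, apply_ite (Int.cast : ℤ → K)] at hA' hB'
    linear_combination hs + t * hA' + t ^ 2 * hB'
  rw [e, Matrix.add_mulVec, Matrix.one_mulVec, Matrix.smul_mulVec, Matrix.add_mulVec,
    Matrix.single_mulVec, Matrix.single_mulVec]
  rfl

/-! ### The adjoint element -/

/-- The adjoint matrix of an element of the model. -/
def Adj (g : S.N) (X : Matrix chevD4.Idx chevD4.Idx K) : Prop :=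
  ∀ v, nmat g * lvZ v = lvZ (X *ᵥ v) * nmat g

theorem Adj.one : Adj (1 : S.N) 1 := fun v => by
  show (1 : Matrix (Fin 8) (Fin 8) K) * lvZ v = lvZ ((1 : Matrix _ _ K) *ᵥ v) * 1
  simp

theorem Adj.mul {g h : S.N} {X Y : Matrix chevD4.Idx chevD4.Idx K} (hg : Adj g X) (hh : Adj h Y) :
    Adj (g * h) (X * Y) := fun v => by
  rw [nmat_mul, mul_assoc, hh, ← mul_assoc, hg, mul_assoc, mulVec_mulVec]

theorem Adj.inv {g : S.N} {X : GL chevD4.Idx K} (hg : Adj g (X : Matrix chevD4.Idx chevD4.Idx K)) :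
    Adj g⁻¹ ((X⁻¹ : GL chevD4.Idx K) : Matrix chevD4.Idx chevD4.Idx K) := fun v => by
  have h := hg (((X⁻¹ : GL chevD4.Idx K) : Matrix chevD4.Idx chevD4.Idx K) *ᵥ v)
  rw [mulVec_mulVec, ← Units.val_mul, mul_inv_cancel, Units.val_one, one_mulVec] at h
  have i1 : nmat g * nmat g⁻¹ = 1 := by rw [← nmat_mul, mul_inv_cancel]; rfl
  have i2 : nmat g⁻¹ * nmat g = 1 := by rw [← nmat_mul, inv_mul_cancel]; rfl
  calc nmat g⁻¹ * lvZ v = nmat g⁻¹ * (lvZ v * nmat g) * nmat g⁻¹ := by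
        rw [mul_assoc, mul_assoc, i1, mul_one]
    _ = _ := by rw [← h, ← mul_assoc, i2, one_mul]

/-- Three root elements. -/
theorem adj_three {a b c : ℕ} (ha : a < 24) (hb : b < 24) (hc : c < 24) (t t' t'' : K) (g : S.N)
    (hg : ∀ x, nact g x = uZ a t *ᵥ (uZ b t' *ᵥ (uZ c t'' *ᵥ x))) :
    Adj g (chevD4.wordMat K [(a, t), (b, t'), (c, t'')]) := by
  have hM : nmat g = uZ a t * (uZ b t' * uZ c t'') :=
    Matrix.ext_iff_mulVec.2 fun x => by rw [← mulVec_mulVec, ← mulVec_mulVec]; exact hg x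
  intro v
  simp only [ChevalleyDatum.wordMat, List.map_cons, List.map_nil, List.prod_cons, List.prod_nil,
    mul_one, hM, ← mulVec_mulVec]
  rw [mul_assoc, mul_assoc, uZ_lvZ hc, ← mul_assoc (uZ b t'), uZ_lvZ hb, mul_assoc (lvZ _),
    ← mul_assoc (uZ a t), uZ_lvZ ha, mul_assoc]

theorem adj_one_root {a : ℕ} (ha : a < 24) (t : K) (g : S.N)
    (hg : ∀ x, nact g x = uZ a t *ᵥ x) : Adj g (chevD4.wordMat K [(a, t)]) := by
  have hM : nmat g = uZ a t := Matrix.ext_iff_mulVec.2 hg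
  intro v
  simp only [ChevalleyDatum.wordMat, List.map_cons, List.map_nil, List.prod_cons, List.prod_nil,
    mul_one, hM]
  exact uZ_lvZ ha t v

section Twisted

variable [Fintype K] {q : ℕ} (hσ : ∀ x, S.σ x = x ^ q ^ 2) (hK : Fintype.card K = q ^ 3)

include hσ hK

theorem sigma_sigma (t : K) : S.σ (S.σ t) = t ^ q := by
  rw [hσ, hσ, ← pow_mul, show q ^ 2 * q ^ 2 = q ^ 3 * q by ring, pow_mul, ← hK, FiniteField.pow_card]

theorem pow_of_fixed (r : F) : (S.φ r) ^ q = S.φ r := by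
  rw [← sigma_sigma hσ hK, S.σφ, S.σφ]

theorem adj_tA0 (t : K) :
    Adj (S.tA0 t) (chevD4.wordMat K [(5, t), (10, t ^ q), (11, t ^ q ^ 2)]) := by
  refine adj_three (by norm_num) (by norm_num) (by norm_num) _ _ _ _ fun x => ?_
  rw [S.nact_tA0, uZ_mulVec (r := 11) (by simp), uZ_mulVec (r := 10) (by simp),
    uZ_mulVec (r := 5) (by simp), sigma_sigma hσ hK, hσ]
  funext i
  fin_cases i <;> simp [twA, cell] <;> ring

theorem adj_tB0 (t : K) :
    Adj (S.tB0 (-t)) (chevD4.wordMat K [(18, t), (13, t ^ q), (12, t ^ q ^ 2)]) := by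
  refine adj_three (by norm_num) (by norm_num) (by norm_num) _ _ _ _ fun x => ?_
  rw [S.nact_tB0, uZ_mulVec (r := 12) (by simp), uZ_mulVec (r := 13) (by simp),
    uZ_mulVec (r := 18) (by simp), map_neg, map_neg, sigma_sigma hσ hK, hσ]
  funext i
  fin_cases i <;> simp [twB, cell] <;> ring

theorem adj_trans01 (r : F) :
    Adj (S.emb (gS (Matrix.SpecialLinearGroup.transvection (show (0 : Fin 3) ≠ 1 by decide) r)))
      (chevD4.wordMat K [(14, -S.φ r)]) := by
  refine adj_one_root (by norm_num) _ _ fun x => ?_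
  rw [S.nact_emb_gS, uZ_mulVec (r := 14) (by simp)]
  funext i
  fin_cases i <;>
    simp [cell, moveS, Matrix.SpecialLinearGroup.transvection_coe, Matrix.single_apply,
      Matrix.one_apply] <;> ring

theorem adj_trans10 (r : F) :
    Adj (S.emb (gS (Matrix.SpecialLinearGroup.transvection (show (1 : Fin 3) ≠ 0 by decide) r)))
      (chevD4.wordMat K [(9, -S.φ r)]) := by
  refine adj_one_root (by norm_num) _ _ fun x => ?_
  rw [S.nact_emb_gS, uZ_mulVec (r := 9) (by simp)]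
  funext i
  fin_cases i <;>
    simp [cell, moveS, Matrix.SpecialLinearGroup.transvection_coe, Matrix.single_apply,
      Matrix.one_apply] <;> ring

theorem word_mem {w : List (ℕ × K)} (hw : w ∈ d4Words K q) :
    ∃ X : ↥(twistedD4 K q), ((X : GL chevD4.Idx K) : Matrix chevD4.Idx chevD4.Idx K) =
      chevD4.wordMat K w := by
  have e : ∀ w : List (ℕ × K), ∃ X : GL chevD4.Idx K,
      (X : Matrix chevD4.Idx chevD4.Idx K) = chevD4.wordMat K w := by
    intro w
    induction w with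
    | nil => exact ⟨1, rfl⟩
    | cons p w ih =>
      obtain ⟨Y, hY⟩ := ih
      exact ⟨goodD4.xG p.1 p.2 * Y, by
        rw [Units.val_mul, hY, goodD4.coe_xG]; simp [ChevalleyDatum.wordMat]⟩
  obtain ⟨X, hX⟩ := e w
  exact ⟨⟨X, Subgroup.subset_closure ⟨w, hw, hX⟩⟩, hX⟩

theorem exists_adj [Finite F] (g : S.N) :
    ∃ X : ↥(twistedD4 K q), Adj g ((X : GL chevD4.Idx K) : Matrix chevD4.Idx chevD4.Idx K) := by
  refine Subgroup.closure_induction
    (p := fun g _ => ∃ X : ↥(twistedD4 K q),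
      Adj g ((X : GL chevD4.Idx K) : Matrix chevD4.Idx chevD4.Idx K)) ?_ ⟨1, Adj.one⟩
    (fun a b _ _ => fun ⟨X, hX⟩ ⟨Y, hY⟩ => ⟨X * Y, hX.mul hY⟩)
    (fun a _ => fun ⟨X, hX⟩ => ⟨X⁻¹, hX.inv⟩) (mem_moved S g)
  rintro a (⟨t, rfl | rfl⟩ | ⟨t, rfl | rfl⟩)
  · obtain ⟨X, hX⟩ := word_mem hσ hK (w := [(5, t), (10, t ^ q), (11, t ^ q ^ 2)])
      (Or.inr ⟨t, _, List.mem_cons_of_mem _ (List.mem_cons_self), rfl⟩)
    exact ⟨X, hX.symm ▸ adj_tA0 hσ hK t⟩
  · obtain ⟨X, hX⟩ := word_mem hσ hK (w := [(18, -t), (13, (-t) ^ q), (12, (-t) ^ q ^ 2)])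
      (Or.inr ⟨-t, _, List.mem_cons_self, rfl⟩)
    have h := adj_tB0 hσ hK (-t)
    rw [neg_neg] at h
    exact ⟨X, hX.symm ▸ h⟩
  · obtain ⟨X, hX⟩ := word_mem hσ hK (w := [(14, -S.φ t)])
      (Or.inl ⟨-S.φ t, by rw [← map_neg, pow_of_fixed hσ hK], 14, by simp [d4p2], rfl⟩)
    exact ⟨X, hX.symm ▸ adj_trans01 hσ hK t⟩
  · obtain ⟨X, hX⟩ := word_mem hσ hK (w := [(9, -S.φ t)])
      (Or.inl ⟨-S.φ t, by rw [← map_neg, pow_of_fixed hσ hK], 9, by simp [d4m2], rfl⟩)
    exact ⟨X, hX.symm ▸ adj_trans10 hσ hK t⟩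

theorem exists_pre (Y : GL chevD4.Idx K) (hY : Y ∈ twistedD4 K q) :
    ∃ k : S.N, Adj k (Y : Matrix chevD4.Idx chevD4.Idx K) := by
  refine Subgroup.closure_induction (p := fun (Y : GL chevD4.Idx K) _ => ∃ k : S.N,
    Adj k (Y : Matrix chevD4.Idx chevD4.Idx K)) ?_ ?_ ?_ ?_ hY
  rotate_left
  · refine ⟨(1 : S.N), ?_⟩
    rw [Units.val_one]
    exact Adj.one
  · rintro a b _ _ ⟨k, hk⟩ ⟨l, hl⟩
    refine ⟨k * l, ?_⟩
    rw [Units.val_mul]
    exact hk.mul hl
  · rintro a _ ⟨k, hk⟩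
    exact ⟨k⁻¹, hk.inv⟩
  rintro Y ⟨w, hw, hYw⟩
  rw [hYw]
  rcases hw with ⟨t, ht, r, hr, rfl⟩ | ⟨t, rs, hrs, rfl⟩
  · obtain ⟨u, hu⟩ := (S.fix (-t)).1 (by rw [map_neg, hσ, sq, pow_mul, ht, ht])
    have e : -S.φ u = t := by rw [hu, neg_neg]
    rcases List.mem_pair.1 hr with rfl | rfl
    · exact ⟨_, e ▸ adj_trans01 hσ hK u⟩
    · exact ⟨_, e ▸ adj_trans10 hσ hK u⟩
  · rcases List.mem_pair.1 hrs with rfl | rfl
    · exact ⟨_, adj_tB0 hσ hK t⟩
    · exact ⟨_, adj_tA0 hσ hK t⟩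

/-- The adjoint element is unique. -/
theorem Adj.unique [Finite F] (hq : IsPrimePow q) {g : S.N} {X Y : ↥(twistedD4 K q)}
    (hX : Adj g ((X : GL chevD4.Idx K) : Matrix chevD4.Idx chevD4.Idx K))
    (hY : Adj g ((Y : GL chevD4.Idx K) : Matrix chevD4.Idx chevD4.Idx K)) : X = Y := by
  haveI := (twistedD4_simple K hq hK).1
  let L : Subgroup ↥(twistedD4 K q) :=
    { carrier := {X | Adj (1 : S.N) ((X : GL chevD4.Idx K) : Matrix chevD4.Idx chevD4.Idx K)}
      one_mem' := Adj.one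
      mul_mem' := fun {a b} ha hb => by simpa using ha.mul hb
      inv_mem' := fun {a} ha => by simpa using ha.inv }
  haveI : L.Normal := ⟨fun a ha Y => by
    obtain ⟨k, hk⟩ := exists_pre hσ hK _ Y.2
    have h := (hk.mul (show Adj (1 : S.N) _ from ha)).mul hk.inv
    rw [mul_one, mul_inv_cancel] at h
    exact h⟩
  have hL : L = ⊥ := (Subgroup.Normal.eq_bot_or_eq_top ‹L.Normal›).resolve_right fun htop => by
    obtain ⟨Z, hZ⟩ := exists_adj hσ hK
      (S.emb (gS (Matrix.SpecialLinearGroup.transvection (show (0 : Fin 3) ≠ 1 by decide) (1 : F))))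
    have h := hZ.mul (show Z⁻¹ ∈ L by rw [htop]; exact Subgroup.mem_top _)
    rw [mul_one, ← Units.val_mul, ← Subgroup.coe_mul, mul_inv_cancel] at h
    obtain ⟨M, hM⟩ : ∃ M : Matrix ι8 ι8 K, M = Matrix.of fun a b => (sg (z8 a) : K) * (sg (z8 b) : K) *
        nmat (S.emb (gS (Matrix.SpecialLinearGroup.transvection (show (0 : Fin 3) ≠ 1 by decide) (1 : F))))
          (z8 a) (z8 b) := ⟨_, rfl⟩
    have hs : ∀ i : Fin 8, (sg i : K) * (sg i : K) = 1 := fun i => by fin_cases i <;> simp [sg]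
    have hZM : toZ M = nmat
        (S.emb (gS (Matrix.SpecialLinearGroup.transvection (show (0 : Fin 3) ≠ 1 by decide) (1 : F)))) := by
      ext i j
      simp only [hM, toZ, Matrix.of_apply, Equiv.apply_symm_apply]
      generalize nmat (S.emb (gS (Matrix.SpecialLinearGroup.transvection
        (show (0 : Fin 3) ≠ 1 by decide) (1 : F)))) i j = y
      linear_combination y * (sg j : K) * (sg j : K) * hs i + y * hs j
    have inj : ∀ A B : Matrix ι8 ι8 K, toZ A = toZ B → A = B := fun A B e => by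
      ext a b
      have := congrFun (congrFun e (z8 a)) (z8 b)
      simp only [toZ, Matrix.of_apply, Equiv.symm_apply_apply] at this
      refine mul_left_cancel₀ ?_ this
      exact mul_ne_zero (left_ne_zero_of_mul_eq_one (hs _)) (left_ne_zero_of_mul_eq_one (hs _))
    obtain ⟨c, hc⟩ := scalar_of_commute (N := numD4) (M := M) orthD4_checkL orthD4_units
      (by norm_num) fun v => inj _ _ (by
        rw [toZ_mul, toZ_mul, hZM]
        have := h v
        rwa [Subgroup.coe_one, Units.val_one, one_mulVec] at this)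
    have h12 : (sg (z8 (.inr 2)) : K) * (sg (z8 (.inr 1)) : K) *
        nact (S.emb (gS (Matrix.SpecialLinearGroup.transvection (show (0 : Fin 3) ≠ 1 by decide) (1 : F))))
          (Pi.single (z8 (.inr 1)) 1) (z8 (.inr 2)) = 0 := by
      have := congrFun (congrFun hc (.inr 2)) (.inr 1)
      rw [nact_single]
      simpa [hM] using this
    rw [S.nact_emb_gS] at h12
    simp [z8, sg, moveS, Matrix.SpecialLinearGroup.transvection_coe] at h12
  have h := hY.inv.mul hX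
  rw [inv_mul_cancel] at h
  have : Y⁻¹ * X ∈ L := h
  rw [hL, Subgroup.mem_bot, inv_mul_eq_one] at this
  exact this.symm

/-- The map onto `³D₄(q)`. -/
noncomputable def adjHom [Finite F] (hq : IsPrimePow q) : S.N →* ↥(twistedD4 K q) :=
  MonoidHom.mk' (fun g => (exists_adj hσ hK g).choose) fun a b =>
    Adj.unique hσ hK hq (exists_adj hσ hK (a * b)).choose_spec
      ((exists_adj hσ hK a).choose_spec.mul (exists_adj hσ hK b).choose_spec)

theorem adjHom_surjective [Finite F] (hq : IsPrimePow q) :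
    Function.Surjective (adjHom (S := S) hσ hK hq) := fun Y => by
  obtain ⟨k, hk⟩ := exists_pre (S := S) hσ hK _ Y.2
  exact ⟨k, Adj.unique hσ hK hq (exists_adj hσ hK k).choose_spec hk⟩

/-- An element with non-trivial image is not a scalar. -/
theorem not_scalar_of_adjHom_ne [Finite F] (hq : IsPrimePow q) {g : S.N}
    (hg : adjHom hσ hK hq g ≠ 1) (c : K) : ¬ ∀ x, nact g x = c • x := fun h => hg (by
  refine Adj.unique hσ hK hq (exists_adj hσ hK g).choose_spec fun v => ?_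
  have e : nmat g = c • 1 := Matrix.ext_iff_mulVec.2 fun x => by
    rw [Matrix.smul_mulVec, one_mulVec]; exact h x
  rw [e]
  simp)

end Twisted

end CfsgLib.KnownB.D4Square
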