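import Cfsg.Agent.Lib.KnownB.D4Square.Root
import Cfsg.Agent.Lib.KnownB.G2Square.BigCell

/-!
# The big cell of the parabolic in the twisted model

An element with `(3,3)` entry one is `v · ι Y · u` with `Y ∈ SL₂(F)`; the root subgroups generate.
-/

set_option autoImplicit false
set_option maxHeartbeats 1000000

namespace CfsgLib.KnownB.D4Square

open Matrix Cfsg.Lie CfsgLib.NormalCover CfsgLib.KnownB.G2Square

variable {F K : Type*} [Field F] [Field K] (S : Tw F K)

local notation "V8" => Fin 8 → K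

theorem Tw.fix_of_eq {x : K} (h : S.σ (S.σ x) = S.σ x) : ∃ r : F, S.φ r = x := by
  have e := congrArg S.σ h
  rw [S.cube] at e
  exact (S.fix x).1 (h ▸ e.symm)

theorem Tw.nact_iota (Y : Matrix (Fin 2) (Fin 2) F) (hY : Y.det ≠ 0) (x : V8) :
    nact (S.emb (iota Y hY)) x = ![x 0, S.φ (Y 0 0) * x 1 + S.φ (Y 0 1) * x 2,
      S.φ (Y 1 0) * x 1 + S.φ (Y 1 1) * x 2, (S.φ Y.det)⁻¹ * x 3,
      (S.φ Y.det)⁻¹ * (S.φ (Y 1 1) * x 4 - S.φ (Y 1 0) * x 5),
      (S.φ Y.det)⁻¹ * (S.φ (Y 0 0) * x 5 - S.φ (Y 0 1) * x 4), S.φ Y.det * x 6, x 7] := by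
  rw [iota, S.nact_emb_gS]
  funext i
  have h : S.φ Y.det = S.φ (Y 0 0) * S.φ (Y 1 1) - S.φ (Y 0 1) * S.φ (Y 1 0) := by
    rw [det_fin_two, map_sub, map_mul, map_mul]
  fin_cases i <;> simp [moveS, liftSL] <;> first
    | ring1
    | exact Or.inl h.symm

variable [Finite F] [Finite K]

theorem exists_low {w : V8} (hp : S.Pt w) (h3 : w 3 = 1) :
    ∃ v : S.N, v ∈ S.radOp ∧ v ∈ S.moved ∧ nact v w = eTop := by
  obtain ⟨w1, hw1⟩ : ∃ w1, w1 = nact (S.tA0 (-w 5)) w := ⟨_, rfl⟩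
  have a3 : w1 3 = 1 := by rw [hw1, S.nact_tA0]; simp [twA, h3]
  have a5 : w1 5 = 0 := by rw [hw1, S.nact_tA0]; simp [twA, h3]
  obtain ⟨w2, hw2⟩ : ∃ w2, w2 = nact (S.tA1 (w1 4)) w1 := ⟨_, rfl⟩
  have b3 : w2 3 = 1 := by rw [hw2, S.nact_tA1]; simp [a3]
  have b4 : w2 4 = 0 := by rw [hw2, S.nact_tA1]; simp [a3]
  have b5 : w2 5 = 0 := by rw [hw2, S.nact_tA1]; simp [a5]
  obtain ⟨w3, hw3⟩ : ∃ w3, w3 = nact (S.tB2 (S.σ (S.σ (-w2 0)))) w2 := ⟨_, rfl⟩
  have c0 : w3 0 = 0 := by rw [hw3, S.nact_tB2]; simp [b3, S.cube]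
  have c3 : w3 3 = 1 := by rw [hw3, S.nact_tB2]; simp [b3]
  have c4 : w3 4 = 0 := by rw [hw3, S.nact_tB2]; simp [b4]
  have c5 : w3 5 = 0 := by rw [hw3, S.nact_tB2]; simp [b5]
  obtain ⟨hn, hs⟩ : S.Pt w3 := by rw [hw3, hw2, hw1]; exact ((hp.map _).map _).map _
  have c6 : w3 6 = 0 := by simpa [zNm, c0, c3, c4, c5] using hn
  have c7 : w3 7 = 0 := by
    have := congrFun hs 0
    simpa [star', zConj, zornMul, dot3, cross3, Tw.vs, c0, c3, c4, c5, c6] using this
  obtain ⟨r, hr⟩ : ∃ r : F, S.φ r = w3 1 := S.fix_of_eq (by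
    have := congrFun hs 5
    simp [star', zConj, zornMul, dot3, cross3, Tw.vs, c0, c3, c4, c5, c6, c7] at this
    linear_combination this)
  obtain ⟨s, hs'⟩ : ∃ s : F, S.φ s = w3 2 := S.fix_of_eq (by
    have := congrFun hs 4
    simp [star', zConj, zornMul, dot3, cross3, Tw.vs, c0, c3, c4, c5, c6, c7] at this
    linear_combination -this)
  refine ⟨S.emb (gS (upSL (-r) (-s))) *
      (S.tB2 (S.σ (S.σ (-w2 0))) * (S.tA1 (w1 4) * S.tA0 (-w 5))),
    mul_mem (S.emb_radOp (gS_up_mem _ _)) (mul_mem (S.tB2_radOp _)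
      (mul_mem (S.tA1_radOp _) (S.tA0_radOp _))),
    mul_mem (S.emb_gS_mem _) (mul_mem (S.tB2_mem _) (mul_mem (S.tA1_mem _) (S.tA0_mem _))), ?_⟩
  rw [nact_mul, nact_mul, nact_mul, ← hw1, ← hw2, ← hw3, S.nact_emb_gS]
  funext i
  fin_cases i <;> simp [moveS, upSL, eTop, c0, c3, c4, c5, c6, c7, hr, hs']

theorem exists_up {w : V8} (hp : S.Pt w) (h6 : w 6 = 1) :
    ∃ u : S.N, u ∈ S.rad ∧ u ∈ S.moved ∧ nact u w = eBot := by
  obtain ⟨w1, hw1⟩ : ∃ w1, w1 = nact (S.tB0 (-w 2)) w := ⟨_, rfl⟩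
  have a6 : w1 6 = 1 := by rw [hw1, S.nact_tB0]; simp [twB, h6]
  have a2 : w1 2 = 0 := by rw [hw1, S.nact_tB0]; simp [twB, h6]
  obtain ⟨w2, hw2⟩ : ∃ w2, w2 = nact (S.tB1 (w1 1)) w1 := ⟨_, rfl⟩
  have b6 : w2 6 = 1 := by rw [hw2, S.nact_tB1]; simp [a6]
  have b1 : w2 1 = 0 := by rw [hw2, S.nact_tB1]; simp [a6]
  have b2 : w2 2 = 0 := by rw [hw2, S.nact_tB1]; simp [a2]
  obtain ⟨w3, hw3⟩ : ∃ w3, w3 = nact (S.tA2 (S.σ (-w2 0))) w2 := ⟨_, rfl⟩
  have c0 : w3 0 = 0 := by rw [hw3, S.nact_tA2]; simp [b6, S.cube]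
  have c6 : w3 6 = 1 := by rw [hw3, S.nact_tA2]; simp [b6]
  have c1 : w3 1 = 0 := by rw [hw3, S.nact_tA2]; simp [b1]
  have c2 : w3 2 = 0 := by rw [hw3, S.nact_tA2]; simp [b2]
  obtain ⟨hn, hs⟩ : S.Pt w3 := by rw [hw3, hw2, hw1]; exact ((hp.map _).map _).map _
  have c3 : w3 3 = 0 := by simpa [zNm, c0, c1, c2, c6] using hn
  have c7 : w3 7 = 0 := by
    have := congrFun hs 0
    simpa [star', zConj, zornMul, dot3, cross3, Tw.vs, c0, c1, c2, c3, c6] using this
  obtain ⟨r, hr⟩ : ∃ r : F, S.φ r = w3 4 := S.fix_of_eq (by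
    have := congrFun hs 2
    simp [star', zConj, zornMul, dot3, cross3, Tw.vs, c0, c1, c2, c3, c6, c7] at this
    first | linear_combination this | linear_combination -this)
  obtain ⟨s, hs'⟩ : ∃ s : F, S.φ s = w3 5 := S.fix_of_eq (by
    have := congrFun hs 1
    simp [star', zConj, zornMul, dot3, cross3, Tw.vs, c0, c1, c2, c3, c6, c7] at this
    first | linear_combination this | linear_combination -this)
  refine ⟨S.emb (gS (lowSL r s)) * (S.tA2 (S.σ (-w2 0)) * (S.tB1 (w1 1) * S.tB0 (-w 2))),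
    mul_mem (S.emb_rad (gS_low_mem _ _)) (mul_mem (S.tA2_rad _)
      (mul_mem (S.tB1_rad _) (S.tB0_rad _))),
    mul_mem (S.emb_gS_mem _) (mul_mem (S.tA2_mem _) (mul_mem (S.tB1_mem _) (S.tB0_mem _))), ?_⟩
  rw [nact_mul, nact_mul, nact_mul, ← hw1, ← hw2, ← hw3, S.nact_emb_gS]
  funext i
  fin_cases i <;> simp [moveS, lowSL, eBot, c0, c1, c2, c3, c6, c7, hr, hs']

/-- An element fixing `a₃` and `b₃` is in the copy of `SL₂(F)`. -/
theorem stab_pair (h : S.N) (he : nact h (eTop : V8) = eTop) (hf : nact h (eBot : V8) = eBot) :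
    ∃ (Y : Matrix (Fin 2) (Fin 2) F) (hY : Y.det ≠ 0), Y.det = 1 ∧ h = S.emb (iota Y hY) := by
  obtain ⟨M1, hM1⟩ : ∃ M, M = (nmat h).map S.σ := ⟨_, rfl⟩
  obtain ⟨M2, hM2⟩ : ∃ M, M = M1.map S.σ := ⟨_, rfl⟩
  have hrel : ∀ x y : V8, nact h (star' x y) = star' (M1 *ᵥ x) (M2 *ᵥ y) := fun x y => by
    rw [hM2, hM1]; exact nact_star h x y
  have e1 : M1 *ᵥ (eTop : V8) = eTop := by
    have := congrArg S.vs he
    rw [nact, S.vs_mulVec, eTop_single, S.vs_single, ← hM1] at this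
    rwa [eTop_single]
  have f1 : M1 *ᵥ (eBot : V8) = eBot := by
    have := congrArg S.vs hf
    rw [nact, S.vs_mulVec, eBot_single, S.vs_single, ← hM1] at this
    rwa [eBot_single]
  have e2 : M2 *ᵥ (eTop : V8) = eTop := by
    have := congrArg S.vs e1
    rw [S.vs_mulVec, eTop_single, S.vs_single, ← hM2] at this
    rwa [eTop_single]
  have f2 : M2 *ᵥ (eBot : V8) = eBot := by
    have := congrArg S.vs f1
    rw [S.vs_mulVec, eBot_single, S.vs_single, ← hM2] at this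
    rwa [eBot_single]
  have p0 : (Pi.single 0 1 : V8) = star' eTop eBot := by
    funext i; fin_cases i <;> simp [star', zConj, zornMul, dot3, cross3, eTop, eBot]
  have p7 : (Pi.single 7 1 : V8) = star' eBot eTop := by
    funext i; fin_cases i <;> simp [star', zConj, zornMul, dot3, cross3, eTop, eBot]
  have h0 : nact h (Pi.single 0 1 : V8) = Pi.single 0 1 := by rw [p0, hrel, e1, f2]
  have h7 : nact h (Pi.single 7 1 : V8) = Pi.single 7 1 := by rw [p7, hrel, f1, e2]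
  have m0 : M1 *ᵥ (Pi.single 0 1 : V8) = Pi.single 0 1 := by
    have := congrArg S.vs h0; rwa [nact, S.vs_mulVec, S.vs_single, ← hM1] at this
  have m7 : M1 *ᵥ (Pi.single 7 1 : V8) = Pi.single 7 1 := by
    have := congrArg S.vs h7; rwa [nact, S.vs_mulVec, S.vs_single, ← hM1] at this
  have n0 : M2 *ᵥ (Pi.single 0 1 : V8) = Pi.single 0 1 := by
    have := congrArg S.vs m0; rwa [S.vs_mulVec, S.vs_single, ← hM2] at this
  have n7 : M2 *ᵥ (Pi.single 7 1 : V8) = Pi.single 7 1 := by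
    have := congrArg S.vs m7; rwa [S.vs_mulVec, S.vs_single, ← hM2] at this
  -- idempotents act as projections
  have L0 : ∀ z : V8, star' (Pi.single 0 1) z = ![0, 0, 0, 0, -z 4, -z 5, -z 6, z 0] := fun z => by
    funext i; fin_cases i <;> simp [star', zConj, zornMul, dot3, cross3]
  have R7 : ∀ z : V8, star' z (Pi.single 7 1) = ![z 7, 0, 0, 0, -z 4, -z 5, -z 6, 0] := fun z => by
    funext i; fin_cases i <;> simp [star', zConj, zornMul, dot3, cross3]
  have R0 : ∀ z : V8, star' z (Pi.single 0 1) = ![0, -z 1, -z 2, -z 3, 0, 0, 0, z 0] := fun z => by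
    funext i; fin_cases i <;> simp [star', zConj, zornMul, dot3, cross3]
  have L7 : ∀ z : V8, star' (Pi.single 7 1) z = ![z 7, -z 1, -z 2, -z 3, 0, 0, 0, 0] := fun z => by
    funext i; fin_cases i <;> simp [star', zConj, zornMul, dot3, cross3]
  have cM1 : ∀ i j, (M1 *ᵥ (Pi.single j 1 : V8)) i = S.σ (nmat h i j) := fun i j => by simp [hM1]
  have cM2 : ∀ i j, (M2 *ᵥ (Pi.single j 1 : V8)) i = S.σ (S.σ (nmat h i j)) := fun i j => by
    simp [hM2, hM1]
  have hbj : ∀ j : Fin 8, (j = 4 ∨ j = 5 ∨ j = 6) → ∀ i, S.σ (nmat h i j) = nmat h i j := by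
    intro j hj i
    have hs : nact h (-(Pi.single j 1 : V8)) = -nact h (Pi.single j 1) := mulVec_neg _ _
    have a := hrel (Pi.single 0 1) (Pi.single j 1)
    have b := hrel (Pi.single j 1) (Pi.single 7 1)
    rw [show star' (Pi.single 0 1 : V8) (Pi.single j 1) = -(Pi.single j 1) by
      rw [L0]; rcases hj with rfl | rfl | rfl <;> funext k <;> fin_cases k <;> simp, hs, m0, L0] at a
    rw [show star' (Pi.single j 1 : V8) (Pi.single 7 1) = -(Pi.single j 1) by
      rw [R7]; rcases hj with rfl | rfl | rfl <;> funext k <;> fin_cases k <;> simp, hs, n7, R7] at b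
    have ai := congrFun a i
    have bi := congrFun b i
    simp only [Pi.neg_apply, nact_single, cM1, cM2] at ai bi
    fin_cases i <;> simp at ai bi ⊢ <;> first
      | exact ai.symm
      | exact bi.symm
      | rw [ai, map_zero]
      | rw [bi, map_zero]
  have haj : ∀ j : Fin 8, (j = 1 ∨ j = 2 ∨ j = 3) → ∀ i, S.σ (nmat h i j) = nmat h i j := by
    intro j hj i
    have hs : nact h (-(Pi.single j 1 : V8)) = -nact h (Pi.single j 1) := mulVec_neg _ _
    have a := hrel (Pi.single j 1) (Pi.single 0 1)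
    have b := hrel (Pi.single 7 1) (Pi.single j 1)
    rw [show star' (Pi.single j 1 : V8) (Pi.single 0 1) = -(Pi.single j 1) by
      rw [R0]; rcases hj with rfl | rfl | rfl <;> funext k <;> fin_cases k <;> simp, hs, n0, R0] at a
    rw [show star' (Pi.single 7 1 : V8) (Pi.single j 1) = -(Pi.single j 1) by
      rw [L7]; rcases hj with rfl | rfl | rfl <;> funext k <;> fin_cases k <;> simp, hs, m7, L7] at b
    have ai := congrFun a i
    have bi := congrFun b i
    simp only [Pi.neg_apply, nact_single, cM1, cM2] at ai bi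
    fin_cases i <;> simp at ai bi ⊢ <;> first
      | exact ai.symm
      | exact bi.symm
      | rw [ai, map_zero]
      | rw [bi, map_zero]
  have hent : ∀ i j, S.σ (nmat h i j) = nmat h i j := by
    intro i j
    fin_cases j
    · show S.σ (nmat h i 0) = nmat h i 0
      have := congrFun h0 i; rw [nact_single] at this; rw [this]; simp [Pi.single_apply]
    · exact haj 1 (Or.inl rfl) i
    · exact haj 2 (Or.inr (Or.inl rfl)) i
    · exact haj 3 (Or.inr (Or.inr rfl)) i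
    · exact hbj 4 (Or.inl rfl) i
    · exact hbj 5 (Or.inr (Or.inl rfl)) i
    · exact hbj 6 (Or.inr (Or.inr rfl)) i
    · show S.σ (nmat h i 7) = nmat h i 7
      have := congrFun h7 i; rw [nact_single] at this; rw [this]; simp [Pi.single_apply]
  have hM : M1 = nmat h := by rw [hM1]; ext i j; exact hent i j
  have hM' : M2 = nmat h := by rw [hM2, hM]; ext i j; exact hent i j
  have hone : nact h (zOne : V8) = zOne := by
    rw [show (zOne : V8) = Pi.single 0 1 + Pi.single 7 1 by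
      funext i; fin_cases i <;> simp [zOne], nact_add, h0, h7]
  have hconj : ∀ x : V8, nact h (zConj x) = zConj (nact h x) := fun x => by
    have e : ∀ z : V8, star' z zOne = zConj z := fun z => by
      funext i; fin_cases i <;> simp [star', zConj, zornMul, dot3, cross3, zOne]
    rw [← e, hrel, hM, hM', show nmat h *ᵥ (zOne : V8) = zOne from hone]
    exact e _
  have hg2 : ((h : GL (Fin 8) K)) ∈ Cfsg.Lie.G2 K := fun x y => by
    show nact h (zornMul x y) = zornMul (nact h x) (nact h y)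
    have e : ∀ x y : V8, zornMul x y = star' (zConj x) (zConj y) := fun x y => by
      funext i; fin_cases i <;> simp [star', zConj, zornMul, dot3, cross3]
    rw [e, hrel, hM, hM', e (nact h x) (nact h y), ← hconj, ← hconj]
    rfl
  have hz : (eZero : V8) = Pi.single 0 1 := by funext i; fin_cases i <;> simp [eZero]
  obtain ⟨hdS, hS⟩ := stab_eZero hg2 (show nact h (eZero : V8) = eZero by rw [hz, h0])
  have hblk : ∀ i j, ∃ r : F, S.φ r = blockA (h : GL (Fin 8) K) i j := fun i j =>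
    (S.fix _).1 (hent _ _)
  generalize blockA (h : GL (Fin 8) K) = A at hdS hS hblk
  have hS' : ∀ x, nact h x = moveS A x := hS
  have q := fun i => congrFun ((hS' eTop).symm.trans he) i
  have r := fun i => congrFun ((hS' eBot).symm.trans hf) i
  have q1 := q 1; have q2 := q 2; have q3 := q 3
  have r4 := r 4; have r5 := r 5; have r6 := r 6
  simp [moveS, eTop] at q1 q2 q3
  simp [moveS, eBot, q1, q2] at r4 r5 r6
  have s20 : A 2 0 = 0 := by
    linear_combination (-A 0 0) * r4 - A 1 0 * r5 - A 2 0 * r6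
  have s21 : A 2 1 = 0 := by
    linear_combination (-A 0 1) * r4 - A 1 1 * r5 - A 2 1 * r6
  obtain ⟨y00, e00⟩ := hblk 0 0
  obtain ⟨y01, e01⟩ := hblk 0 1
  obtain ⟨y10, e10⟩ := hblk 1 0
  obtain ⟨y11, e11⟩ := hblk 1 1
  have hd : (!![y00, y01; y10, y11] : Matrix (Fin 2) (Fin 2) F).det = 1 := by
    apply S.φ.injective
    rw [det_fin_two_of, map_sub, map_mul, map_mul, e00, e01, e10, e11, map_one]
    exact r6
  refine ⟨!![y00, y01; y10, y11], hd ▸ one_ne_zero, hd, ext_nact fun x => ?_⟩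
  rw [S.nact_iota, hS', hd, map_one]
  funext i
  fin_cases i <;> simp [moveS, q1, q2, q3, s20, s21, e00, e01, e10, e11] <;>
    first | ring1 | linear_combination x 6 * r6

/-- The decomposition of an element of the big cell. -/
theorem exists_dec (g : S.N) (hc : nmat g 3 3 = 1) :
    ∃ (v u : S.N) (Y : Matrix (Fin 2) (Fin 2) F) (hY : Y.det ≠ 0),
      v ∈ S.radOp ∧ u ∈ S.rad ∧ g = v * S.emb (iota Y hY) * u ∧ Y.det = 1 ∧ g ∈ S.moved := by
  have e3 : nact g (eTop : V8) 3 = 1 := by rw [eTop_single, nact_single, hc]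
  obtain ⟨v, hv, hvm, hve⟩ := exists_low S (S.pt_eTop.map g) e3
  have hse : nact (v * g) (eTop : V8) = eTop := by rw [nact_mul, hve]
  obtain ⟨z, hz⟩ : ∃ z, z = nact (v * g) (eBot : V8) := ⟨_, rfl⟩
  have hz6 : z 6 = 1 := by
    have := nact_pol (v * g) eTop eBot
    rw [hse, ← hz] at this
    simpa [zPol, eTop, eBot] using this
  obtain ⟨u, hu, hum, hue⟩ := exists_up S (hz ▸ S.pt_eBot.map (v * g)) hz6
  obtain ⟨h, hh⟩ : ∃ h, h = u * (v * g) := ⟨_, rfl⟩
  have he : nact h (eTop : V8) = eTop := by rw [hh, nact_mul, hse, S.nact_rad_eTop hu]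
  have hf : nact h (eBot : V8) = eBot := by rw [hh, nact_mul, ← hz, hue]
  obtain ⟨Y, hY, hd, hhi⟩ := stab_pair S h he hf
  have hgr : ∀ (Z : Matrix (Fin 2) (Fin 2) F) (hZ : Z.det ≠ 0), NGraded gr (S.emb (iota Z hZ)) :=
    fun Z hZ i j e => by rw [S.nmat_emb, Matrix.map_apply, iota_graded Z hZ i j e, map_zero]
  have hinv : (S.emb (iota Y hY))⁻¹ = S.emb (iota Y⁻¹ (by simpa [det_nonsing_inv] using hY)) := by
    rw [← map_inv, iota_inv]
  have hgm : g ∈ S.moved := by
    have : g = v⁻¹ * u⁻¹ * h := by rw [hh]; group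
    rw [this, hhi, iota]
    exact mul_mem (mul_mem (inv_mem hvm) (inv_mem hum)) (S.emb_gS_mem _)
  refine ⟨v⁻¹, (S.emb (iota Y hY))⁻¹ * u⁻¹ * S.emb (iota Y hY), Y, hY, inv_mem hv, ?_, ?_, hd, hgm⟩
  · have := NGraded.conj_rise (d := gr) (l := (S.emb (iota Y hY))⁻¹)
      (by rw [hinv]; exact hgr _ _) (by rw [inv_inv]; exact hgr _ _) (inv_mem hu)
    rwa [inv_inv] at this
  · rw [← hhi, hh]; group

/-- The upper left block of a decomposed element. -/
theorem block_of_dec {g v u : S.N} {Y : Matrix (Fin 2) (Fin 2) F} {hY : Y.det ≠ 0}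
    (hg : g = v * S.emb (iota Y hY) * u) (hv : v ∈ S.radOp) (hu : u ∈ S.rad) (hd : Y.det = 1) :
    (S.φ (Y 1 1) = nmat g 4 4 - nmat g 4 3 * nmat g 3 4 ∧
      S.φ (Y 0 0) = nmat g 5 5 - nmat g 5 3 * nmat g 3 5) ∧
    (-S.φ (Y 1 0) = nmat g 4 5 - nmat g 4 3 * nmat g 3 5 ∧
      -S.φ (Y 0 1) = nmat g 5 4 - nmat g 5 3 * nmat g 3 4) := by
  have he : ∀ i j, nmat g i j =
      nact v (nact (S.emb (iota Y hY)) (fun k => nmat u k j)) i := fun i j => by
    rw [← nact_single, hg, nact_mul, nact_mul]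
    exact congrArg (fun z => nact v (nact (S.emb (iota Y hY)) z) i)
      (funext fun k => nact_single u k j)
  simp only [he, S.nact_iota, hd, map_one]
  simp [nact, Matrix.mulVec, dotProduct, Fin.sum_univ_eight]
  simp [hu 4 4 (by decide), hu 5 4 (by decide), hu 4 5 (by decide), hu 5 5 (by decide),
    hu 0 4 (by decide), hu 1 4 (by decide), hu 2 4 (by decide), hu 6 4 (by decide), hu 7 4 (by decide),
    hu 0 5 (by decide), hu 1 5 (by decide), hu 2 5 (by decide), hu 6 5 (by decide), hu 7 5 (by decide),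
    hu 0 3 (by decide), hu 1 3 (by decide), hu 2 3 (by decide), hu 3 3 (by decide),
    hu 4 3 (by decide), hu 5 3 (by decide), hu 6 3 (by decide), hu 7 3 (by decide),
    hv 3 3 (by decide), hv 3 0 (by decide), hv 3 1 (by decide), hv 3 2 (by decide), hv 3 4 (by decide),
    hv 3 5 (by decide), hv 3 6 (by decide), hv 3 7 (by decide),
    hv 4 4 (by decide), hv 4 0 (by decide), hv 4 1 (by decide), hv 4 2 (by decide), hv 4 5 (by decide),
    hv 4 6 (by decide), hv 4 7 (by decide),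
    hv 5 5 (by decide), hv 5 0 (by decide), hv 5 1 (by decide), hv 5 2 (by decide), hv 5 4 (by decide),
    hv 5 6 (by decide), hv 5 7 (by decide)]

/-- Moving the coordinate of `a₃` by the radical. -/
theorem exists_coord {w : V8} (hp : S.Pt w) (hw : ∀ z : K, w ≠ z • eTop) (c : K) :
    ∃ u : S.N, u ∈ S.rad ∧ u ∈ S.moved ∧ nact u w 3 = c := by
  have case1 : ∀ w : V8, (w 4 ≠ 0 ∨ w 5 ≠ 0) →
      ∃ u : S.N, u ∈ S.rad ∧ u ∈ S.moved ∧ nact u w 3 = c := by
    intro w h
    rcases h with h | h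
    · exact ⟨S.tB1 ((c - w 3) / w 4), S.tB1_rad _, S.tB1_mem _, by
        rw [S.nact_tB1]; simp; field_simp; ring⟩
    · exact ⟨S.tB0 ((w 3 - c) / w 5), S.tB0_rad _, S.tB0_mem _, by
        rw [S.nact_tB0]; simp [twB]; field_simp; ring⟩
  by_cases hb : w 4 ≠ 0 ∨ w 5 ≠ 0
  · exact case1 w hb
  push Not at hb
  by_cases h6 : w 6 = 0
  swap
  · obtain ⟨u, hu, hum, he⟩ := case1 (nact (S.emb (gS (lowSL 1 0))) w) (Or.inl (by
      rw [S.nact_emb_gS]; simp [moveS, lowSL, hb.1, h6]))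
    exact ⟨u * S.emb (gS (lowSL 1 0)), mul_mem hu (S.emb_rad (gS_low_mem _ _)),
      mul_mem hum (S.emb_gS_mem _), by rw [nact_mul]; exact he⟩
  by_cases ha : w 1 ≠ 0 ∨ w 2 ≠ 0
  · obtain ⟨u, hu, hum, he⟩ := case1 (nact (S.tA2 1) w) (by
      rw [S.nact_tA2]; simp [hb.1, hb.2]; tauto)
    exact ⟨u * S.tA2 1, mul_mem hu (S.tA2_rad _), mul_mem hum (S.tA2_mem _),
      by rw [nact_mul]; exact he⟩
  push Not at ha
  obtain ⟨-, hs⟩ := hp
  have e0 := congrFun hs 0
  have e7 := congrFun hs 7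
  simp [star', zConj, zornMul, dot3, cross3, Tw.vs, ha.1, ha.2, hb.1, hb.2, h6] at e0 e7
  exact absurd (funext fun i => by
    fin_cases i <;> simp [eTop, e0, e7, ha.1, ha.2, h6, hb.1, hb.2]) (hw (w 3))

/-- The root subgroups generate. -/
theorem mem_moved (g : S.N) : g ∈ S.moved := by
  have key : ∀ g : S.N, (∀ z : K, nact g (eTop : V8) ≠ z • eTop) → g ∈ S.moved := fun g hw => by
    obtain ⟨u, -, hum, hu1⟩ := exists_coord S (S.pt_eTop.map g) hw 1
    obtain ⟨v, u', Y, hY, -, -, -, -, hm⟩ := exists_dec S (u * g)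
      (by rw [← nact_single, ← eTop_single, nact_mul, hu1])
    simpa using mul_mem (inv_mem hum) hm
  by_cases hw : ∀ z : K, nact g (eTop : V8) ≠ z • eTop
  · exact key g hw
  push Not at hw
  obtain ⟨z, hz⟩ := hw
  have := key (S.cyc * g) fun y e => by
    rw [nact_mul, hz, nact_smul, S.nact_cyc] at e
    have e1 := congrFun e 1
    simp [eTop] at e1
    subst e1
    rw [zero_smul, ← nact_zero g] at hz
    simpa [eTop] using congrFun (nact_injective g hz) 3
  simpa using mul_mem (inv_mem S.cyc_mem) this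

end CfsgLib.KnownB.D4Square
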