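import Cfsg.Agent.Lib.KnownB.D4Square.BigCell

/-!
# Conjugating into the good part of the big cell of the twisted model
-/

set_option autoImplicit false
set_option maxHeartbeats 1000000

namespace CfsgLib.KnownB.D4Square

open Matrix Cfsg.Lie CfsgLib.NormalCover CfsgLib.KnownB.G2Square

variable {F K : Type*} [Field F] [Field K] {S : Tw F K}

local notation "V8" => Fin 8 → K

/-- An element acting as a scalar. -/
def IsScalar (g : S.N) : Prop := ∃ c : K, ∀ x : V8, nact g x = c • x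

theorem star_smul (a b : K) (x y : V8) : star' (a • x) (b • y) = (a * b) • star' x y := by
  funext i
  fin_cases i <;> simp [star', zConj, zornMul, dot3, cross3] <;> ring

theorem exists_conj_moves {g : S.N} (hg : ¬ IsScalar g) :
    ∃ k : S.N, ∀ z : K, nact (k * g * k⁻¹) (eTop : V8) ≠ z • eTop := by
  by_contra hall
  push Not at hall
  apply hg
  have heig : ∀ k : S.N, ∃ z : K, nact g (nact k (eTop : V8)) = z • nact k eTop := fun k => by
    obtain ⟨z, hz⟩ := hall k⁻¹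
    refine ⟨z, ?_⟩
    rw [inv_inv, nact_mul, nact_mul] at hz
    have e := congrArg (nact k) hz
    rwa [← nact_mul, mul_inv_cancel, nact_one, nact_smul] at e
  obtain ⟨c, hc⟩ := heig 1
  rw [nact_one] at hc
  obtain ⟨c1, hc1⟩ := heig S.cyc
  obtain ⟨c2, hc2⟩ := heig (S.cyc * S.cyc)
  obtain ⟨c13, hc13⟩ := heig (S.emb (gS (upSL 1 0)))
  obtain ⟨c23, hc23⟩ := heig (S.emb (gS (upSL 0 1)))
  obtain ⟨m, hm⟩ := heig (S.tA2 1 * S.cyc)
  have e1 : nact S.cyc (eTop : V8) = Pi.single 1 1 := by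
    rw [S.nact_cyc]; funext i; fin_cases i <;> simp [eTop]
  have e2 : nact (S.cyc * S.cyc) (eTop : V8) = Pi.single 2 1 := by
    rw [nact_mul, e1, S.nact_cyc]; funext i; fin_cases i <;> simp
  have e13 : nact (S.emb (gS (upSL 1 0))) (eTop : V8) = Pi.single 1 1 + Pi.single 3 1 := by
    rw [S.nact_emb_gS]; funext i; fin_cases i <;> simp [moveS, upSL, eTop]
  have e23 : nact (S.emb (gS (upSL 0 1))) (eTop : V8) = Pi.single 2 1 + Pi.single 3 1 := by
    rw [S.nact_emb_gS]; funext i; fin_cases i <;> simp [moveS, upSL, eTop]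
  have em : nact (S.tA2 1 * S.cyc) (eTop : V8) = Pi.single 1 1 + (-1 : K) • Pi.single 5 1 := by
    rw [nact_mul, e1, S.nact_tA2]; funext i; fin_cases i <;> simp
  rw [e1] at hc1
  rw [e2] at hc2
  rw [eTop_single] at hc
  rw [e13, nact_add, hc1, hc] at hc13
  rw [e23, nact_add, hc2, hc] at hc23
  have a1 : c1 = c := by
    have h1 := congrFun hc13 1; have h3 := congrFun hc13 3
    simp at h1 h3
    rw [h1, h3]
  have a2 : c2 = c := by
    have h1 := congrFun hc23 2; have h3 := congrFun hc23 3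
    simp at h1 h3
    rw [h1, h3]
  rw [a1] at hc1
  rw [a2] at hc2
  -- products of eigenvectors
  have pr : ∀ (i j : Fin 8) (a b : K), nact g (Pi.single i 1 : V8) = a • Pi.single i 1 →
      nact g (Pi.single j 1 : V8) = b • Pi.single j 1 →
      nact g (star' (Pi.single i 1) (Pi.single j 1)) =
        (S.σ a * S.σ (S.σ b)) • star' (Pi.single i 1 : V8) (Pi.single j 1) := by
    intro i j a b hi hj
    have h := nact_pair g (Pi.single i 1) (Pi.single j 1)
    rw [hi, hj] at h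
    simpa only [S.vs_smul, S.vs_single, star_smul] using h
  obtain ⟨d, hd⟩ : ∃ d, d = S.σ c * S.σ (S.σ c) := ⟨_, rfl⟩
  have q4 : star' (Pi.single 2 1 : V8) (Pi.single 3 1) = Pi.single 4 1 := by
    funext i; fin_cases i <;> simp [star', zConj, zornMul, dot3, cross3]
  have q5 : star' (Pi.single 3 1 : V8) (Pi.single 1 1) = Pi.single 5 1 := by
    funext i; fin_cases i <;> simp [star', zConj, zornMul, dot3, cross3]
  have q6 : star' (Pi.single 1 1 : V8) (Pi.single 2 1) = Pi.single 6 1 := by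
    funext i; fin_cases i <;> simp [star', zConj, zornMul, dot3, cross3]
  have b4 : nact g (Pi.single 4 1 : V8) = d • Pi.single 4 1 := by
    have := pr 2 3 c c hc2 hc; rwa [q4, ← hd] at this
  have b5 : nact g (Pi.single 5 1 : V8) = d • Pi.single 5 1 := by
    have := pr 3 1 c c hc hc1; rwa [q5, ← hd] at this
  have b6 : nact g (Pi.single 6 1 : V8) = d • Pi.single 6 1 := by
    have := pr 1 2 c c hc1 hc2; rwa [q6, ← hd] at this
  have hdc : d = c := by
    rw [em, nact_add, nact_smul, hc1, b5] at hm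
    have h1 := congrFun hm 1; have h5 := congrFun hm 5
    simp at h1 h5
    rw [h1, h5]
  rw [hdc] at b4 b5 b6
  have q0 : star' (Pi.single 3 1 : V8) (Pi.single 6 1) = Pi.single 0 1 := by
    funext i; fin_cases i <;> simp [star', zConj, zornMul, dot3, cross3]
  have q7 : star' (Pi.single 6 1 : V8) (Pi.single 3 1) = Pi.single 7 1 := by
    funext i; fin_cases i <;> simp [star', zConj, zornMul, dot3, cross3]
  have b0 : nact g (Pi.single 0 1 : V8) = c • Pi.single 0 1 := by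
    have := pr 3 6 c c hc b6; rwa [q0, ← hd, hdc] at this
  have b7 : nact g (Pi.single 7 1 : V8) = c • Pi.single 7 1 := by
    have := pr 6 3 c c b6 hc; rwa [q7, ← hd, hdc] at this
  refine ⟨c, fun x => ?_⟩
  have e : Matrix.toLin' (nmat g) = c • LinearMap.id := by
    refine (Pi.basisFun K (Fin 8)).ext fun j => ?_
    rw [Pi.basisFun_apply, Matrix.toLin'_apply, LinearMap.smul_apply, LinearMap.id_apply]
    fin_cases j
    · exact b0
    · exact hc1
    · exact hc2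
    · exact hc
    · exact b4
    · exact b5
    · exact b6
    · exact b7
  simpa [nact] using LinearMap.congr_fun e x

variable [Finite F] [Finite K]

/-- Some conjugate has `(3,3)` entry one. -/
theorem exists_conj_one {g : S.N} (hg : ¬ IsScalar g) : ∃ k : S.N, nmat (k * g * k⁻¹) 3 3 = 1 := by
  obtain ⟨k, hk⟩ := exists_conj_moves hg
  obtain ⟨u, hu, -, hu1⟩ := exists_coord S (S.pt_eTop.map (k * g * k⁻¹)) hk 1
  refine ⟨u * k, ?_⟩
  rw [show u * k * g * (u * k)⁻¹ = u * (k * g * k⁻¹) * u⁻¹ by group, ← nact_single, ← eTop_single,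
    S.nact_conj_rad hu, hu1]

/-- The data wanted in characteristic two. -/
def Nice (h : S.N) : Prop :=
  nmat h 3 3 = 1 ∧
    ((nmat h 4 4 - nmat h 4 3 * nmat h 3 4) + (nmat h 5 5 - nmat h 5 3 * nmat h 3 5) ≠ 0 ∨
      (nmat h 4 5 - nmat h 4 3 * nmat h 3 5 = 0 ∧ nmat h 5 4 - nmat h 5 3 * nmat h 3 4 = 0 ∧
        nmat h 4 4 - nmat h 4 3 * nmat h 3 4 = nmat h 5 5 - nmat h 5 3 * nmat h 3 5))

theorem nmat_conj (k h : S.N) (i j : Fin 8) {y : V8} (hy : nact k y = Pi.single j 1) :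
    nmat (k * h * k⁻¹) i j = nact k (nact h y) i := by
  rw [← nact_single, nact_mul, nact_mul, nact_inv_of_eq hy]

omit [Finite F] [Finite K] in
theorem scaling_injective (h2 : (2 : K) = 0) :
    Function.Injective fun x : K => (S.σ x * S.σ (S.σ x)) ^ 2 := by
  haveI : CharP K 2 := CharTwo.of_one_ne_zero_of_two_eq_zero one_ne_zero h2
  intro x y e
  have e' : S.σ x * S.σ (S.σ x) = S.σ y * S.σ (S.σ y) := CharTwo.sq_injective e
  have f1 := congrArg S.σ e'
  have f2 := congrArg S.σ f1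
  simp only [map_mul, S.cube] at f1 f2
  by_cases hy : y = 0
  · subst hy
    simpa [map_eq_zero] using e'
  have n1 : S.σ y ≠ 0 := (map_ne_zero S.σ).2 hy
  have n2 : S.σ (S.σ y) ≠ 0 := (map_ne_zero S.σ).2 n1
  refine CharTwo.sq_injective (show x ^ 2 = y ^ 2 from ?_)
  refine mul_right_cancel₀ (mul_ne_zero n1 n2) ?_
  calc x ^ 2 * (S.σ y * S.σ (S.σ y)) = (x * S.σ x) * (S.σ (S.σ x) * x) := by rw [← e']; ring
    _ = y ^ 2 * (S.σ y * S.σ (S.σ y)) := by rw [f2, f1]; ring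

/-- The three normal forms in characteristic two. -/
theorem exists_normal (h2 : (2 : K) = 0) {g : S.N} (hg : ¬ IsScalar g) :
    ∃ k : S.N, nact (k * g * k⁻¹) (eTop : V8) = eBot ∨
      (∃ μ : K, μ ≠ 0 ∧ nact (k * g * k⁻¹) (eTop : V8) = μ • Pi.single 1 1) ∨
      (∃ μ : K, μ ≠ 0 ∧ nact (k * g * k⁻¹) (eTop : V8) = μ • Pi.single 4 1) := by
  obtain ⟨k, hk⟩ := exists_conj_moves hg
  obtain ⟨h, hh⟩ : ∃ h, h = k * g * k⁻¹ := ⟨_, rfl⟩
  rw [← hh] at hk
  have step : ∀ (l : S.N) (t : V8), nact l⁻¹ (eTop : V8) = eTop → nact l (nact h eTop) = t →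
      nact (l * k * g * (l * k)⁻¹) (eTop : V8) = t := by
    intro l t hl ht
    rw [show l * k * g * (l * k)⁻¹ = l * h * l⁻¹ by rw [hh]; group, nact_mul, nact_mul, hl, ht]
  have fixI : ∀ {Y : Matrix (Fin 2) (Fin 2) F} (hY : Y.det ≠ 0), Y.det = 1 →
      nact (S.emb (iota Y hY))⁻¹ (eTop : V8) = eTop := fun hY hd => nact_inv_of_eq (by
    rw [S.nact_iota, hd, map_one]; funext i; fin_cases i <;> simp [eTop])
  obtain ⟨w, hw⟩ : ∃ w, w = nact h (eTop : V8) := ⟨_, rfl⟩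
  have hp : S.Pt w := hw ▸ S.pt_eTop.map h
  by_cases h6 : w 6 = 0
  swap
  · obtain ⟨u, hu, -, hue⟩ := exists_up S (hp.smul (w 6)⁻¹) (by simp [h6])
    obtain ⟨c, hc⟩ := Finite.surjective_of_injective (scaling_injective (S := S) h2) (w 6)
    simp only at hc
    have hc0 : c ≠ 0 := by rintro rfl; simp at hc; exact h6 hc.symm
    have h1 : S.σ c ≠ 0 := (map_ne_zero S.σ).2 hc0
    have h2' : S.σ (S.σ c) ≠ 0 := (map_ne_zero S.σ).2 h1
    refine ⟨S.tor c hc0 * u * k, Or.inl ?_⟩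
    have e1 : nact (S.tor c hc0)⁻¹ (eTop : V8) = (S.σ c * S.σ (S.σ c))⁻¹ • eTop := nact_inv_of_eq (by
      rw [S.nact_tor, twT_apply]; funext i; fin_cases i <;> simp [eTop] <;> field_simp)
    rw [show S.tor c hc0 * u * k * g * (S.tor c hc0 * u * k)⁻¹ =
        S.tor c hc0 * (u * h * u⁻¹) * (S.tor c hc0)⁻¹ by rw [hh]; group,
      nact_mul, nact_mul, e1, nact_smul, S.nact_conj_rad hu, ← hw,
      show nact u w = w 6 • eBot by rw [← hue, nact_smul, smul_smul, mul_inv_cancel₀ h6, one_smul],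
      smul_smul, nact_smul, S.nact_tor, twT_apply]
    funext i
    fin_cases i <;> simp [eBot]
    rw [← hc]; field_simp
  by_cases ha : w 1 ≠ 0 ∨ w 2 ≠ 0
  · have c6 := congrFun hp.2 6
    simp [star', zConj, zornMul, dot3, cross3, Tw.vs, h6] at c6
    obtain ⟨Y, hd, μ, hμ, hY1, hY2⟩ : ∃ Y : Matrix (Fin 2) (Fin 2) F, Y.det = 1 ∧ ∃ μ : K, μ ≠ 0 ∧
        S.φ (Y 0 0) * w 1 + S.φ (Y 0 1) * w 2 = μ ∧ S.φ (Y 1 0) * w 1 + S.φ (Y 1 1) * w 2 = 0 := by
      by_cases h1 : w 1 = 0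
      · have h' := ha.resolve_left (fun e => e h1)
        exact ⟨!![0, 1; -1, 0], by simp [det_fin_two], w 2, h', by simp [h1], by simp [h1]⟩
      · have n1 : S.σ (w 1) ≠ 0 := (map_ne_zero S.σ).2 h1
        have n2 : S.σ (S.σ (w 1)) ≠ 0 := (map_ne_zero S.σ).2 n1
        obtain ⟨r, hr⟩ : ∃ r : F, S.φ r = w 2 / w 1 := S.fix_of_eq (by
          rw [map_div₀, map_div₀, div_eq_div_iff n2 n1]
          linear_combination c6)
        exact ⟨!![1, 0; -r, 1], by simp [det_fin_two], w 1, h1, by simp, by simp [hr]; field_simp; ring⟩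
    have hd0 : Y.det ≠ 0 := hd ▸ one_ne_zero
    obtain ⟨w1, hw1⟩ : ∃ w1, w1 = nact (S.emb (iota Y hd0)) w := ⟨_, rfl⟩
    have x1 : w1 1 = μ := by rw [hw1, S.nact_iota]; simpa using hY1
    have x2 : w1 2 = 0 := by rw [hw1, S.nact_iota]; simpa using hY2
    have x6 : w1 6 = 0 := by rw [hw1, S.nact_iota]; simp [h6]
    obtain ⟨w2, hw2⟩ : ∃ w2, w2 = nact (S.tA2 (w1 5 / μ)) w1 := ⟨_, rfl⟩
    have y1 : w2 1 = μ := by rw [hw2, S.nact_tA2]; simp [x1]
    have y2 : w2 2 = 0 := by rw [hw2, S.nact_tA2]; simp [x2]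
    have y5 : w2 5 = 0 := by rw [hw2, S.nact_tA2]; simp [x1, hμ]
    have y6 : w2 6 = 0 := by rw [hw2, S.nact_tA2]; simp [x6]
    obtain ⟨w3, hw3⟩ : ∃ w3, w3 = nact (S.tB0 (S.σ (S.σ (-(w2 0) / μ)))) w2 := ⟨_, rfl⟩
    have u0 : w3 0 = 0 := by rw [hw3, S.nact_tB0]; simp [twB, y1, S.cube, hμ]
    have u1 : w3 1 = μ := by rw [hw3, S.nact_tB0]; simp [twB, y1]
    have u2 : w3 2 = 0 := by rw [hw3, S.nact_tB0]; simp [twB, y2, y6]
    have u5 : w3 5 = 0 := by rw [hw3, S.nact_tB0]; simp [twB, y5]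
    have u6 : w3 6 = 0 := by rw [hw3, S.nact_tB0]; simp [twB, y6]
    obtain ⟨hn, hs⟩ : S.Pt w3 := by rw [hw3, hw2, hw1]; exact ((hp.map _).map _).map _
    have u4 : w3 4 = 0 := by
      have e := hn
      simp [zNm, u0, u1, u2, u5, u6, hμ] at e
      exact e
    have u7 : w3 7 = 0 := by
      have e := congrFun hs 0
      simp [star', zConj, zornMul, dot3, cross3, Tw.vs, u0, u1, u2, u4, u5, u6] at e
      exact e
    have n1 : S.σ μ ≠ 0 := (map_ne_zero S.σ).2 hμ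
    have n2 : S.σ (S.σ μ) ≠ 0 := (map_ne_zero S.σ).2 n1
    obtain ⟨r, hr⟩ : ∃ r : F, S.φ r = w3 3 / μ := S.fix_of_eq (by
      have e := congrFun hs 5
      simp [star', zConj, zornMul, dot3, cross3, Tw.vs, u0, u1, u2, u4, u5, u6, u7] at e
      rw [map_div₀, map_div₀, div_eq_div_iff n2 n1]
      first | linear_combination e | linear_combination -e)
    refine ⟨S.emb (gS (lowSL (-r) 0)) * S.tB0 (S.σ (S.σ (-(w2 0) / μ))) * S.tA2 (w1 5 / μ) *
      S.emb (iota Y hd0) * k, Or.inr (Or.inl ⟨μ, hμ, step _ _ ?_ ?_⟩)⟩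
    · simp only [_root_.mul_inv_rev, nact_mul,
        S.nact_rad_eTop (inv_mem (S.emb_rad (gS_low_mem _ _))),
        S.nact_rad_eTop (inv_mem (S.tB0_rad _)), S.nact_rad_eTop (inv_mem (S.tA2_rad _)), fixI hd0 hd]
    · rw [← hw, nact_mul, nact_mul, nact_mul, ← hw1, ← hw2, ← hw3, S.nact_emb_gS]
      funext i
      fin_cases i <;> simp [moveS, lowSL, u0, u1, u2, u4, u5, u6, u7, hr] <;> field_simp <;> ring
  push Not at ha
  have e0 := congrFun hp.2 0
  have e7 := congrFun hp.2 7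
  have c3 := congrFun hp.2 3
  simp [star', zConj, zornMul, dot3, cross3, Tw.vs, h6, ha.1, ha.2] at e0 e7 c3
  have hb : w 4 ≠ 0 ∨ w 5 ≠ 0 := by
    by_contra hb
    push Not at hb
    refine hk (w 3) ?_
    rw [← hw]
    funext i
    fin_cases i <;> simp [eTop, e0, e7, ha.1, ha.2, h6, hb.1, hb.2]
  obtain ⟨Y, hd, μ, hμ, hY1, hY2⟩ : ∃ Y : Matrix (Fin 2) (Fin 2) F, Y.det = 1 ∧ ∃ μ : K, μ ≠ 0 ∧
      S.φ (Y 1 1) * w 4 - S.φ (Y 1 0) * w 5 = μ ∧ S.φ (Y 0 0) * w 5 - S.φ (Y 0 1) * w 4 = 0 := by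
    by_cases h4 : w 4 = 0
    · have h' := hb.resolve_left (fun e => e h4)
      exact ⟨!![0, 1; -1, 0], by simp [det_fin_two], w 5, h', by simp [h4], by simp [h4]⟩
    · have n1 : S.σ (w 4) ≠ 0 := (map_ne_zero S.σ).2 h4
      have n2 : S.σ (S.σ (w 4)) ≠ 0 := (map_ne_zero S.σ).2 n1
      obtain ⟨r, hr⟩ : ∃ r : F, S.φ r = w 5 / w 4 := S.fix_of_eq (by
        rw [map_div₀, map_div₀, div_eq_div_iff n2 n1]
        simp [e0, e7] at c3
        first | linear_combination c3 | linear_combination -c3)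
      exact ⟨!![1, r; 0, 1], by simp [det_fin_two], w 4, h4, by simp, by simp [hr]; field_simp; ring⟩
  have hd0 : Y.det ≠ 0 := hd ▸ one_ne_zero
  refine ⟨S.tB1 (-(w 3) / μ) * S.emb (iota Y hd0) * k, Or.inr (Or.inr ⟨μ, hμ, step _ _ ?_ ?_⟩)⟩
  · simp only [_root_.mul_inv_rev, nact_mul, S.nact_rad_eTop (inv_mem (S.tB1_rad _)), fixI hd0 hd]
  · rw [← hw, nact_mul, S.nact_tB1, S.nact_iota, hd, map_one]
    funext i
    fin_cases i <;> simp [e0, e7, ha.1, ha.2, h6, hY1, hY2, hμ] <;> field_simp <;> ring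

omit [Finite F] [Finite K] in
theorem support_of_zero {h : S.N} {t : V8} (he : nact h (eTop : V8) = t) (j : Fin 8)
    (hj : j = 4 ∨ j = 5) :
    star' (S.vs t) (S.vs (S.vs (nact h (Pi.single j 1)))) = 0 ∧
      star' (S.vs (nact h (Pi.single j 1))) (S.vs (S.vs t)) = 0 := by
  have z1 : star' (Pi.single 3 1 : V8) (Pi.single j 1) = 0 := by
    rcases hj with rfl | rfl <;> funext i <;> fin_cases i <;> simp [star', zConj, zornMul, dot3, cross3]
  have z2 : star' (Pi.single j 1 : V8) (Pi.single 3 1) = 0 := by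
    rcases hj with rfl | rfl <;> funext i <;> fin_cases i <;> simp [star', zConj, zornMul, dot3, cross3]
  rw [← he, ← nact_pair, ← nact_pair, eTop_single, S.vs_single, S.vs_single, S.vs_single,
    S.vs_single, z1, z2, nact_zero]
  exact ⟨rfl, rfl⟩

/-- A one-parameter family with affine blocks contains a nice element. -/
theorem finish_affine (h2 : (2 : K) = 0) (m : F → S.N) (a b c d d4 d5 : K)
    (key : ∀ s : F, nmat (m s) 3 3 = 1 ∧
      nmat (m s) 4 4 - nmat (m s) 4 3 * nmat (m s) 3 4 = a + S.φ s * d4 ∧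
      nmat (m s) 5 5 - nmat (m s) 5 3 * nmat (m s) 3 5 = d ∧
      nmat (m s) 4 5 - nmat (m s) 4 3 * nmat (m s) 3 5 = b + S.φ s * d5 ∧
      nmat (m s) 5 4 - nmat (m s) 5 3 * nmat (m s) 3 4 = c)
    (hc : d4 = 0 → c = 0) (hd : d5 = 0 → d = 0) : ∃ s : F, Nice (m s) := by
  haveI : CharP K 2 := CharTwo.of_one_ne_zero_of_two_eq_zero one_ne_zero h2
  obtain ⟨k33, k44, k55, k45, k54⟩ := key 0
  by_cases ht : a + d = 0
  swap
  · exact ⟨0, k33, Or.inl (by rw [k44, k55]; simpa using ht)⟩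
  by_cases h4 : d4 = 0
  swap
  · obtain ⟨l33, l44, l55, -, -⟩ := key 1
    refine ⟨1, l33, Or.inl ?_⟩
    rw [l44, l55, map_one, one_mul]
    intro e
    exact h4 (by linear_combination e - ht)
  have had : a = d := by linear_combination ht - d * h2
  obtain ⟨v, u, Y, hY, hv, hu, hgd, hdet, -⟩ := exists_dec S (m 0) k33
  obtain ⟨⟨b11, b00⟩, b10, b01⟩ := block_of_dec S hgd hv hu hdet
  rw [k44] at b11
  rw [k55] at b00
  rw [k45] at b10
  rw [k54, hc h4] at b01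
  obtain ⟨l33, -, -, l45, -⟩ := key 1
  obtain ⟨v', u', Y', hY', hv', hu', hgd', hdet', -⟩ := exists_dec S (m 1) l33
  obtain ⟨-, c10, -⟩ := block_of_dec S hgd' hv' hu' hdet'
  rw [l45] at c10
  simp [CharTwo.neg_eq] at b11 b10 b01 c10
  have hdd : S.φ (Y 1 1) * S.φ (Y 0 0) = 1 := by
    have := congrArg S.φ hdet
    rw [det_fin_two, b01, zero_mul, sub_zero, map_mul, map_one] at this
    rw [mul_comm, this]
  have hd5 : d5 ≠ 0 := fun e => by
    rw [b00, hd e, mul_zero] at hdd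
    exact zero_ne_one hdd
  have e5 : S.φ (Y' 1 0 - Y 1 0) = d5 := by rw [map_sub, b10, c10]; ring
  have hr : Y' 1 0 - Y 1 0 ≠ 0 := fun e => hd5 (by rw [← e5, e, map_zero])
  refine ⟨Y 1 0 / (Y' 1 0 - Y 1 0), ?_⟩
  obtain ⟨n33, n44, n55, n45, n54⟩ := key (Y 1 0 / (Y' 1 0 - Y 1 0))
  refine ⟨n33, Or.inr ⟨?_, ?_, ?_⟩⟩
  · rw [n45, ← e5, ← map_mul, div_mul_cancel₀ _ hr, ← b10]
    exact CharTwo.add_self_eq_zero _
  · rw [n54, hc h4]
  · rw [n44, n55, h4, mul_zero, add_zero, had]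

/-- Normal form `μ a₁`. -/
theorem nice_of_a (h2 : (2 : K) = 0) {h : S.N} {μ : K} (hμ : μ ≠ 0)
    (he : nact h (eTop : V8) = μ • Pi.single 1 1) : ∃ k : S.N, Nice (k * h * k⁻¹) := by
  haveI : CharP K 2 := CharTwo.of_one_ne_zero_of_two_eq_zero one_ne_zero h2
  have n1 : S.σ μ ≠ 0 := (map_ne_zero S.σ).2 hμ
  have n2 : S.σ (S.σ μ) ≠ 0 := (map_ne_zero S.σ).2 n1
  have sup : ∀ j : Fin 8, (j = 4 ∨ j = 5) → ∃ x y z : K,
      nact h (Pi.single j 1) = ![0, x, 0, 0, 0, y, z, 0] := fun j hj => by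
    obtain ⟨s1, s2⟩ := support_of_zero he j hj
    refine ⟨nact h (Pi.single j 1) 1, nact h (Pi.single j 1) 5, nact h (Pi.single j 1) 6, ?_⟩
    generalize nact h (Pi.single j 1) = v at s1 s2
    have a0 := congrFun s1 0; have a1 := congrFun s1 1; have a5 := congrFun s1 5
    have a6 := congrFun s1 6; have a7 := congrFun s1 7
    have b0 := congrFun s2 0; have b1 := congrFun s2 1; have b5 := congrFun s2 5
    have b6 := congrFun s2 6; have b7 := congrFun s2 7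
    simp [star', zConj, zornMul, dot3, cross3, Tw.vs, hμ] at a0 a1 a5 a6 a7 b0 b1 b5 b6 b7
    funext i
    fin_cases i <;> simp [*]
  obtain ⟨x4, y4, z4, c4⟩ := sup 4 (Or.inl rfl)
  obtain ⟨x5, y5, z5, c5⟩ := sup 5 (Or.inr rfl)
  obtain ⟨p, hp⟩ : ∃ p, p = μ⁻¹ := ⟨_, rfl⟩
  have hpμ : p * μ = 1 := by rw [hp]; exact inv_mul_cancel₀ hμ
  obtain ⟨P, hP⟩ : ∃ P, P = S.σ (S.σ p) * S.σ p := ⟨_, rfl⟩
  obtain ⟨L, hL⟩ : ∃ L, L = S.σ (S.σ p) + S.σ p := ⟨_, rfl⟩
  have hP0 : P ≠ 0 := by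
    rw [hP]
    exact mul_ne_zero ((map_ne_zero S.σ).2 ((map_ne_zero S.σ).2 (left_ne_zero_of_mul_eq_one hpμ)))
      ((map_ne_zero S.σ).2 (left_ne_zero_of_mul_eq_one hpμ))
  obtain ⟨k, hkdef⟩ : ∃ k : F → S.N, ∀ s, k s = S.emb (gS (lowSL 0 s)) * (S.tB0 1 * S.tA2 p) :=
    ⟨_, fun _ => rfl⟩
  obtain ⟨s, hs⟩ := finish_affine h2 (fun s => k s * h * (k s)⁻¹)
    ((L + μ * P) * z4 + μ * y4) ((L + μ * P) * z5 + μ * y5) (P * z4) (P * z5) (μ * z4) (μ * z5)
    (fun s => by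
      have k3 : nact (k s) (eTop : V8) = Pi.single 3 1 := by
        rw [hkdef, S.nact_rad_eTop (mul_mem (S.emb_rad (gS_low_mem _ _))
          (mul_mem (S.tB0_rad _) (S.tA2_rad _))), eTop_single]
      have k4 : nact (k s) (Pi.single 4 1 : V8) = Pi.single 4 1 := by
        rw [hkdef, nact_mul, nact_mul, S.nact_emb_gS, S.nact_tB0, S.nact_tA2]
        funext i
        fin_cases i <;> simp [moveS, twB, lowSL]
      have k5 : nact (k s) (Pi.single 5 1 + eTop : V8) = Pi.single 5 1 := by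
        rw [hkdef, nact_mul, nact_mul, S.nact_emb_gS, S.nact_tB0, S.nact_tA2]
        funext i
        fin_cases i <;> simp [moveS, twB, lowSL, eTop, CharTwo.add_self_eq_zero, Pi.single_apply,
          vecHead, vecTail]
      simp only [nmat_conj _ _ _ _ k3, nmat_conj _ _ _ _ k4, nmat_conj _ _ _ _ k5]
      simp only [nact_add, he, c4, c5, hkdef, nact_mul, S.nact_emb_gS, S.nact_tB0, S.nact_tA2]
      simp [moveS, twB, lowSL, CharTwo.neg_eq, CharTwo.sub_eq_add, CharTwo.add_self_eq_zero, hpμ,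
        hP, hL]
      refine ⟨?_, ?_, ?_, ?_⟩ <;> grind)
    (fun e => by simp [(mul_eq_zero.1 e).resolve_left hμ])
    (fun e => by simp [(mul_eq_zero.1 e).resolve_left hμ])
  exact ⟨k s, hs⟩

/-- Normal form `μ b₁`. -/
theorem nice_of_b (h2 : (2 : K) = 0) {h : S.N} {μ : K} (hμ : μ ≠ 0)
    (he : nact h (eTop : V8) = μ • Pi.single 4 1) : ∃ k : S.N, Nice (k * h * k⁻¹) := by
  haveI : CharP K 2 := CharTwo.of_one_ne_zero_of_two_eq_zero one_ne_zero h2
  have n1 : S.σ μ ≠ 0 := (map_ne_zero S.σ).2 hμ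
  have n2 : S.σ (S.σ μ) ≠ 0 := (map_ne_zero S.σ).2 n1
  have sup : ∀ j : Fin 8, (j = 4 ∨ j = 5) → ∃ x y z : K,
      nact h (Pi.single j 1) = ![0, 0, x, y, z, 0, 0, 0] := fun j hj => by
    obtain ⟨s1, s2⟩ := support_of_zero he j hj
    refine ⟨nact h (Pi.single j 1) 2, nact h (Pi.single j 1) 3, nact h (Pi.single j 1) 4, ?_⟩
    generalize nact h (Pi.single j 1) = v at s1 s2
    have a0 := congrFun s1 0; have a2 := congrFun s1 2; have a3 := congrFun s1 3
    have a4 := congrFun s1 4; have a7 := congrFun s1 7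
    have b0 := congrFun s2 0; have b2 := congrFun s2 2; have b3 := congrFun s2 3
    have b4 := congrFun s2 4; have b7 := congrFun s2 7
    simp [star', zConj, zornMul, dot3, cross3, Tw.vs, hμ] at a0 a2 a3 a4 a7 b0 b2 b3 b4 b7
    funext i
    fin_cases i <;> simp [*]
  obtain ⟨x4, y4, z4, c4⟩ := sup 4 (Or.inl rfl)
  obtain ⟨x5, y5, z5, c5⟩ := sup 5 (Or.inr rfl)
  obtain ⟨p, hp⟩ : ∃ p, p = μ⁻¹ := ⟨_, rfl⟩
  have hpμ : p * μ = 1 := by rw [hp]; exact inv_mul_cancel₀ hμ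
  obtain ⟨Q, hQ⟩ : ∃ Q, Q = S.σ p * S.σ (S.σ p) := ⟨_, rfl⟩
  obtain ⟨k, hkdef⟩ : ∃ k : F → S.N, ∀ s, k s = S.emb (gS (lowSL 0 s)) * S.tB1 p :=
    ⟨_, fun _ => rfl⟩
  obtain ⟨s, hs⟩ := finish_affine h2 (fun s => k s * h * (k s)⁻¹)
    (μ * y4) (μ * y5) (Q * x4) (Q * x5) (μ * x4) (μ * x5)
    (fun s => by
      have k3 : nact (k s) (eTop : V8) = Pi.single 3 1 := by
        rw [hkdef, S.nact_rad_eTop (mul_mem (S.emb_rad (gS_low_mem _ _)) (S.tB1_rad _)), eTop_single]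
      have k4 : nact (k s) (Pi.single 4 1 + p • eTop : V8) = Pi.single 4 1 := by
        rw [hkdef, nact_mul, S.nact_emb_gS, S.nact_tB1]
        funext i
        fin_cases i <;> simp [moveS, lowSL, eTop, CharTwo.add_self_eq_zero, Pi.single_apply,
          vecHead, vecTail]
      have k5 : nact (k s) (Pi.single 5 1 : V8) = Pi.single 5 1 := by
        rw [hkdef, nact_mul, S.nact_emb_gS, S.nact_tB1]
        funext i
        fin_cases i <;> simp [moveS, lowSL]
      simp only [nmat_conj _ _ _ _ k3, nmat_conj _ _ _ _ k4, nmat_conj _ _ _ _ k5]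
      simp only [nact_add, nact_smul, he, c4, c5, hkdef, nact_mul, S.nact_emb_gS, S.nact_tB1]
      simp [moveS, lowSL, CharTwo.neg_eq, CharTwo.sub_eq_add, CharTwo.add_self_eq_zero, hpμ, hQ]
      refine ⟨?_, ?_, ?_⟩ <;> grind)
    (fun e => by simp [(mul_eq_zero.1 e).resolve_left hμ])
    (fun e => by simp [(mul_eq_zero.1 e).resolve_left hμ])
  exact ⟨k s, hs⟩

/-- Normal form `b₃`. -/
theorem nice_of_f (h2 : (2 : K) = 0) {h : S.N} (he : nact h (eTop : V8) = eBot) :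
    ∃ k : S.N, Nice (k * h * k⁻¹) := by
  haveI : CharP K 2 := CharTwo.of_one_ne_zero_of_two_eq_zero one_ne_zero h2
  have sup : ∀ j : Fin 8, (j = 4 ∨ j = 5) → ∃ p q r : K,
      nact h (Pi.single j 1) = ![0, p, q, 0, 0, 0, r, 0] := fun j hj => by
    obtain ⟨s1, s2⟩ := support_of_zero he j hj
    refine ⟨nact h (Pi.single j 1) 1, nact h (Pi.single j 1) 2, nact h (Pi.single j 1) 6, ?_⟩
    generalize nact h (Pi.single j 1) = v at s1 s2
    have a0 := congrFun s1 0; have a1 := congrFun s1 1; have a2 := congrFun s1 2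
    have a6 := congrFun s1 6; have a7 := congrFun s1 7
    have b0 := congrFun s2 0; have b1 := congrFun s2 1; have b2 := congrFun s2 2
    have b6 := congrFun s2 6; have b7 := congrFun s2 7
    simp [star', zConj, zornMul, dot3, cross3, Tw.vs, eBot] at a0 a1 a2 a6 a7 b0 b1 b2 b6 b7
    funext i
    fin_cases i <;> simp [*]
  obtain ⟨p4, q4, r4, c4⟩ := sup 4 (Or.inl rfl)
  obtain ⟨p5, q5, r5, c5⟩ := sup 5 (Or.inr rfl)
  have key : ∀ s : F, let m := nmat (S.emb (gS (lowSL 1 s)) * S.tB1 1 * h *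
        (S.emb (gS (lowSL 1 s)) * S.tB1 1)⁻¹)
      m 3 3 = 1 ∧ (m 4 4 - m 4 3 * m 3 4) + (m 5 5 - m 5 3 * m 3 5) =
        p4 + q5 + S.φ s * (q4 + p5) + S.φ s * S.φ s * q5 := by
    intro s m
    have k3 : nact (S.emb (gS (lowSL 1 s)) * S.tB1 1) (eTop : V8) = Pi.single 3 1 := by
      rw [S.nact_rad_eTop (mul_mem (S.emb_rad (gS_low_mem _ _)) (S.tB1_rad _)), eTop_single]
    have k4 : nact (S.emb (gS (lowSL 1 s)) * S.tB1 1) (Pi.single 4 1 + eTop : V8) = Pi.single 4 1 := by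
      rw [nact_mul, S.nact_emb_gS, S.nact_tB1]
      funext i
      fin_cases i <;> simp [moveS, lowSL, eTop, CharTwo.add_self_eq_zero, Pi.single_apply,
        vecHead, vecTail]
    have k5 : nact (S.emb (gS (lowSL 1 s)) * S.tB1 1) (Pi.single 5 1 : V8) = Pi.single 5 1 := by
      rw [nact_mul, S.nact_emb_gS, S.nact_tB1]
      funext i
      fin_cases i <;> simp [moveS, lowSL]
    simp only [m, nmat_conj _ _ _ _ k3, nmat_conj _ _ _ _ k4, nmat_conj _ _ _ _ k5, nact_add, he,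
      c4, c5, nact_mul, S.nact_emb_gS, S.nact_tB1]
    simp [moveS, lowSL, eBot, CharTwo.neg_eq, CharTwo.sub_eq_add, CharTwo.add_self_eq_zero]
    grind
  obtain ⟨k33, ktr⟩ := key 0
  by_cases t0 : p4 + q5 = 0
  swap
  · exact ⟨_, k33, Or.inl (by rw [ktr]; simpa using t0)⟩
  obtain ⟨l33, ltr⟩ := key 1
  by_cases t1 : p4 + q5 + (q4 + p5) + q5 = 0
  swap
  · exact ⟨_, l33, Or.inl (by rw [ltr]; simpa using t1)⟩
  refine ⟨S.tA2 1, ?_⟩
  have k3 : nact (S.tA2 1) (eTop : V8) = Pi.single 3 1 := by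
    rw [S.nact_rad_eTop (S.tA2_rad _), eTop_single]
  have k4 : nact (S.tA2 1) (Pi.single 4 1 : V8) = Pi.single 4 1 := by
    rw [S.nact_tA2]; funext i; fin_cases i <;> simp
  have k5 : nact (S.tA2 1) (Pi.single 5 1 : V8) = Pi.single 5 1 := by
    rw [S.nact_tA2]; funext i; fin_cases i <;> simp
  simp only [Nice, nmat_conj _ _ _ _ k3, nmat_conj _ _ _ _ k4, nmat_conj _ _ _ _ k5, he, c4, c5,
    S.nact_tA2]
  simp [eBot, CharTwo.neg_eq, CharTwo.sub_eq_add]
  by_cases hq : q4 + p5 = 0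
  · right
    have hq5 : q5 = 0 := by linear_combination t1 - t0 - hq
    refine ⟨?_, ?_, ?_⟩
    all_goals first | exact hq5 | linear_combination t0 - hq5 | linear_combination hq - p5 * h2
  · exact Or.inl hq

/-- In characteristic two every non-scalar element has a nice conjugate. -/
theorem exists_nice (h2 : (2 : K) = 0) {g : S.N} (hg : ¬ IsScalar g) :
    ∃ k : S.N, Nice (k * g * k⁻¹) := by
  obtain ⟨k, hk⟩ := exists_normal h2 hg
  obtain ⟨l, hl⟩ : ∃ l : S.N, Nice (l * (k * g * k⁻¹) * l⁻¹) := by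
    rcases hk with h | ⟨μ, hμ, h⟩ | ⟨μ, hμ, h⟩
    · exact nice_of_f h2 h
    · exact nice_of_a h2 hμ h
    · exact nice_of_b h2 hμ h
  exact ⟨l * k, by rwa [show l * k * g * (l * k)⁻¹ = l * (k * g * k⁻¹) * l⁻¹ by group]⟩

end CfsgLib.KnownB.D4Square
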