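import Cfsg.Agent.Lib.KnownB.D4Square.BigCell

/-!
# The class of `x = tor c · ι A` and the block criterion in the twisted model
-/

set_option autoImplicit false
set_option maxHeartbeats 1000000

namespace CfsgLib.KnownB.D4Square

open Matrix Cfsg.Lie CfsgLib.NormalCover CfsgLib.KnownB.G2Square
open CfsgLib.KnownB.PSpFourSquare (Cover cover_of_conj exists_comp_conj det_comp trace_comp)

variable {F K : Type*} [Field F] [Field K] {S : Tw F K}

local notation "V8" => Fin 8 → K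

/-- Parameters without fixed points on the radicals. -/
structure Para (S : Tw F K) where
  δ : F
  τ : F
  c : K
  hδ : δ ≠ 0
  hsq : τ ^ 2 ≠ 4 * δ
  hc : c ≠ 0
  zero : S.σ (S.σ c) ^ 2 ≠ S.φ δ
  seven : S.σ c ^ 2 ≠ S.φ δ
  low : (c * S.φ δ / (S.σ c * S.σ (S.σ c))) ^ 2 -
    S.φ τ * (c * S.φ δ / (S.σ c * S.σ (S.σ c))) + S.φ δ ≠ 0
  top : (S.φ δ ^ 2 / (c * S.σ c * S.σ (S.σ c))) ^ 2 -
    S.φ τ * (S.φ δ ^ 2 / (c * S.σ c * S.σ (S.σ c))) + S.φ δ ≠ 0

/-- Determinant and trace of the companion matrix. -/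
def Para.Like (P : Para S) (Y : Matrix (Fin 2) (Fin 2) F) : Prop := Y.det = P.δ ∧ Y.trace = P.τ

variable {P : Para S}

theorem Para.Like.det_ne {Y : Matrix (Fin 2) (Fin 2) F} (h : P.Like Y) : Y.det ≠ 0 := by
  rw [h.1]; exact P.hδ

theorem Para.Like.transpose {Y : Matrix (Fin 2) (Fin 2) F} (h : P.Like Y) : P.Like Yᵀ :=
  ⟨by rw [det_transpose, h.1], by rw [trace_transpose, h.2]⟩

theorem Para.comp_det_ne (P : Para S) : (PSpFourSquare.comp P.δ P.τ).det ≠ 0 := by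
  rw [det_comp]; exact P.hδ

theorem tor_commute (c : K) (hc : c ≠ 0) (Y : Matrix (Fin 2) (Fin 2) F) (hY : Y.det ≠ 0) :
    S.tor c hc * S.emb (iota Y hY) = S.emb (iota Y hY) * S.tor c hc := by
  refine ext_nact fun x => ?_
  rw [nact_mul, nact_mul, S.nact_tor, S.nact_tor, S.nact_iota, S.nact_iota, twT_apply, twT_apply]
  funext i
  fin_cases i <;> simp <;> ring

variable (P) in
/-- `tor c · ι Y`. -/
noncomputable def Para.pos (Y : Matrix (Fin 2) (Fin 2) F) (hY : Y.det ≠ 0) : S.N :=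
  S.tor P.c P.hc * S.emb (iota Y hY)

variable (P) in
/-- The element `x`. -/
noncomputable def Para.x : S.N := P.pos (PSpFourSquare.comp P.δ P.τ) P.comp_det_ne

/-- Conjugates of `pos Y` or of its inverse. -/
def Para.Cls (P : Para S) (y : S.N) : Prop :=
  ∃ (Y : Matrix (Fin 2) (Fin 2) F) (h : P.Like Y), y = P.pos Y h.det_ne ∨ y = (P.pos Y h.det_ne)⁻¹

theorem nact_pos (Y : Matrix (Fin 2) (Fin 2) F) (hY : Y.det ≠ 0) (x : V8) :
    nact (P.pos Y hY) x = ![S.σ (S.σ P.c) * (S.σ P.c)⁻¹ * x 0,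
      P.c⁻¹ * (S.φ (Y 0 0) * x 1 + S.φ (Y 0 1) * x 2),
      P.c⁻¹ * (S.φ (Y 1 0) * x 1 + S.φ (Y 1 1) * x 2),
      S.σ P.c * S.σ (S.σ P.c) * ((S.φ Y.det)⁻¹ * x 3),
      P.c * ((S.φ Y.det)⁻¹ * (S.φ (Y 1 1) * x 4 - S.φ (Y 1 0) * x 5)),
      P.c * ((S.φ Y.det)⁻¹ * (S.φ (Y 0 0) * x 5 - S.φ (Y 0 1) * x 4)),
      (S.σ P.c)⁻¹ * (S.σ (S.σ P.c))⁻¹ * (S.φ Y.det * x 6),
      S.σ P.c * (S.σ (S.σ P.c))⁻¹ * x 7] := by
  rw [Para.pos, nact_mul, S.nact_tor, S.nact_iota, twT_apply]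
  funext i
  fin_cases i <;> simp

theorem pos_graded (Y : Matrix (Fin 2) (Fin 2) F) (hY : Y.det ≠ 0) (d : Fin 8 → ℤ)
    (hd : d = gr ∨ d = fun i => -gr i) : NGraded d (P.pos Y hY) := by
  intro i j h
  rw [← nact_single, nact_pos]
  rcases hd with rfl | rfl <;> fin_cases i <;> fin_cases j <;> simp_all [gr]

theorem pos_inv_graded (Y : Matrix (Fin 2) (Fin 2) F) (hY : Y.det ≠ 0) (d : Fin 8 → ℤ)
    (hd : d = gr ∨ d = fun i => -gr i) : NGraded d (P.pos Y hY)⁻¹ := by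
  intro i j h
  have hi : (P.pos Y hY)⁻¹ = S.emb (iota Y⁻¹ (by simpa [det_nonsing_inv] using hY)) *
      S.tor P.c⁻¹ (inv_ne_zero P.hc) := by
    refine inv_eq_of_mul_eq_one_right ?_
    rw [Para.pos, mul_assoc, ← mul_assoc (S.emb (iota Y hY)), ← map_mul, iota_mul,
      iota_congr (Matrix.mul_nonsing_inv Y (isUnit_iff_ne_zero.2 hY)), iota_one, map_one, one_mul]
    refine ext_nact fun x => ?_
    rw [nact_mul, S.nact_tor, S.nact_tor, twT_apply, twT_apply, nact_one]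
    have h0 := P.hc
    have h1 : S.σ P.c ≠ 0 := (map_ne_zero S.σ).2 h0
    have h2 : S.σ (S.σ P.c) ≠ 0 := (map_ne_zero S.σ).2 h1
    funext k
    fin_cases k <;> simp <;> field_simp
  rw [hi, ← nact_single, nact_mul, S.nact_tor, twT_apply, S.nact_iota]
  rcases hd with rfl | rfl <;> fin_cases i <;> fin_cases j <;> simp_all [gr]

variable [Finite F] [Finite K]

/-- Only the identity of the radical commutes with `pos Y`. -/
theorem cent_rad {Y : Matrix (Fin 2) (Fin 2) F} (h : P.Like Y) {u : S.N} (hu : u ∈ S.rad)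
    (hcm : P.pos Y h.det_ne * u = u * P.pos Y h.det_ne) : u = 1 := by
  have hd := congrArg S.φ h.1
  have ht := congrArg S.φ h.2
  rw [det_fin_two, map_sub, map_mul, map_mul] at hd
  rw [trace_fin_two, map_add] at ht
  have h0 := P.hc
  have h1 : S.σ P.c ≠ 0 := (map_ne_zero S.σ).2 h0
  have h2 : S.σ (S.σ P.c) ≠ 0 := (map_ne_zero S.σ).2 h1
  have hD : S.φ P.δ ≠ 0 := (map_ne_zero S.φ).2 P.hδ
  obtain ⟨z, hz⟩ : ∃ z, z = nact u (eBot : V8) := ⟨_, rfl⟩
  obtain ⟨m, hm⟩ : ∃ m, m = (S.σ P.c)⁻¹ * (S.σ (S.σ P.c))⁻¹ * S.φ P.δ := ⟨_, rfl⟩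
  have heig : nact (P.pos Y h.det_ne) z = m • z := by
    rw [hz, ← nact_mul, hcm, nact_mul, ← nact_smul]
    refine congrArg (nact u) ?_
    rw [nact_pos, h.1, hm]
    funext i; fin_cases i <;> simp [eBot]
  rw [nact_pos, h.1] at heig
  have e1 := congrFun heig 1; have e2 := congrFun heig 2
  have e4 := congrFun heig 4; have e5 := congrFun heig 5
  have e0 := congrFun heig 0; have e7 := congrFun heig 7
  simp [hm] at e0 e1 e2 e4 e5 e7
  obtain ⟨k, hk⟩ : ∃ k, k = P.c * S.φ P.δ / (S.σ P.c * S.σ (S.σ P.c)) := ⟨_, rfl⟩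
  obtain ⟨n, hn⟩ : ∃ n, n = S.φ P.δ ^ 2 / (P.c * S.σ P.c * S.σ (S.σ P.c)) := ⟨_, rfl⟩
  have hkk := P.low
  rw [← hk] at hkk
  have hnn := P.top
  rw [← hn] at hnn
  have f1 : S.φ (Y 0 0) * z 1 + S.φ (Y 0 1) * z 2 = k * z 1 := by
    rw [hk]; field_simp at e1 ⊢; linear_combination e1
  have f2 : S.φ (Y 1 0) * z 1 + S.φ (Y 1 1) * z 2 = k * z 2 := by
    rw [hk]; field_simp at e2 ⊢; linear_combination e2
  have f4 : S.φ (Y 1 1) * z 4 - S.φ (Y 1 0) * z 5 = n * z 4 := by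
    rw [hn]; field_simp at e4 ⊢; linear_combination e4
  have f5 : S.φ (Y 0 0) * z 5 - S.φ (Y 0 1) * z 4 = n * z 5 := by
    rw [hn]; field_simp at e5 ⊢; linear_combination e5
  have z1 : z 1 = 0 := (mul_eq_zero.1 (show (k ^ 2 - S.φ P.τ * k + S.φ P.δ) * z 1 = 0 by
    linear_combination (S.φ (Y 1 1) - k) * f1 - S.φ (Y 0 1) * f2 - z 1 * hd + z 1 * k * ht)).resolve_left hkk
  have z2 : z 2 = 0 := (mul_eq_zero.1 (show (k ^ 2 - S.φ P.τ * k + S.φ P.δ) * z 2 = 0 by
    linear_combination (S.φ (Y 0 0) - k) * f2 - S.φ (Y 1 0) * f1 - z 2 * hd + z 2 * k * ht)).resolve_left hkk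
  have z4 : z 4 = 0 := (mul_eq_zero.1 (show (n ^ 2 - S.φ P.τ * n + S.φ P.δ) * z 4 = 0 by
    linear_combination (S.φ (Y 0 0) - n) * f4 + S.φ (Y 1 0) * f5 - z 4 * hd + z 4 * n * ht)).resolve_left hnn
  have z5 : z 5 = 0 := (mul_eq_zero.1 (show (n ^ 2 - S.φ P.τ * n + S.φ P.δ) * z 5 = 0 by
    linear_combination (S.φ (Y 1 1) - n) * f5 + S.φ (Y 0 1) * f4 - z 5 * hd + z 5 * n * ht)).resolve_left hnn
  have z0 : z 0 = 0 := (mul_eq_zero.1 (show (S.σ (S.σ P.c) ^ 2 - S.φ P.δ) * z 0 = 0 by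
    field_simp at e0
    rcases e0 with e | e
    · rw [e, sub_self, zero_mul]
    · rw [e, mul_zero])).resolve_left (sub_ne_zero.2 P.zero)
  have z7 : z 7 = 0 := (mul_eq_zero.1 (show (S.σ P.c ^ 2 - S.φ P.δ) * z 7 = 0 by
    field_simp at e7
    rcases e7 with e | e
    · rw [e, sub_self, zero_mul]
    · rw [e, mul_zero])).resolve_left (sub_ne_zero.2 P.seven)
  have z6 : z 6 = 1 := by
    rw [hz, eBot_single, nact_single, hu 6 6 le_rfl, if_pos rfl]
  have z3 : z 3 = 0 := by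
    have := nact_nm u (eBot : V8)
    rw [← hz] at this
    simp [zNm, eBot, z0, z1, z2, z4, z5, z6, z7] at this
    exact this
  have hf : nact u (eBot : V8) = eBot := by
    rw [← hz]
    funext i
    fin_cases i <;> simp [eBot, z0, z1, z2, z3, z4, z5, z6, z7]
  obtain ⟨Z, hZ, hZd, hu'⟩ := stab_pair S u (S.nact_rad_eTop hu) hf
  have ent : ∀ i j : Fin 8, gr i ≤ gr j →
      nact (S.emb (iota Z hZ)) (Pi.single j 1) i = if i = j then 1 else 0 := fun i j hij => by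
    rw [← hu', nact_single]; exact hu i j hij
  have a := ent 1 1 le_rfl; have b := ent 1 2 (by decide)
  have c := ent 2 1 (by decide); have d := ent 2 2 le_rfl
  rw [S.nact_iota] at a b c d
  simp at a b c d
  have hZ1 : Z = 1 := by
    ext i j
    fin_cases i <;> fin_cases j <;> simp <;> apply S.φ.injective <;> simp [a, b, c, d]
  rw [hu', iota_congr hZ1, iota_one, map_one]

theorem theta_pos {Y : Matrix (Fin 2) (Fin 2) F} (h : P.Like Y) :
    S.emb theta * P.pos Y h.det_ne * S.emb theta = (P.pos Yᵀ h.transpose.det_ne)⁻¹ := by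
  refine eq_inv_of_mul_eq_one_left ?_
  refine ext_nact fun x => ?_
  rw [nact_mul, nact_mul, nact_mul, S.nact_emb_theta, S.nact_emb_theta, nact_pos, nact_pos,
    nact_one, det_transpose, h.1]
  have hd := congrArg S.φ h.1
  rw [det_fin_two, map_sub, map_mul, map_mul] at hd
  have h0 := P.hc
  have h1 : S.σ P.c ≠ 0 := (map_ne_zero S.σ).2 h0
  have h2 : S.σ (S.σ P.c) ≠ 0 := (map_ne_zero S.σ).2 h1
  have hD : S.φ P.δ ≠ 0 := (map_ne_zero S.φ).2 P.hδ
  funext i
  fin_cases i <;> simp [moveT] <;> field_simp <;> first | ring1 | grind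

theorem theta_conj_radOp {v : S.N} (hv : v ∈ S.radOp) :
    S.emb theta * v * S.emb theta ∈ S.rad := by
  intro i j hij
  have hT : ∀ (x : V8) (k : Fin 8), moveT x k = tSign k * x (tPerm k) := fun x k => by
    fin_cases k <;> simp [moveT, tSign, tPerm]
  have hperm : ∀ k l : Fin 8, tPerm k = l ↔ k = tPerm l := by decide
  have hgr : ∀ k : Fin 8, gr (tPerm k) = -gr k := by decide
  have hinj : ∀ k l : Fin 8, tPerm k = tPerm l → k = l := by decide
  have hsg : ∀ k : Fin 8, (tSign k : K) * tSign (tPerm k) = 1 := fun k => by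
    fin_cases k <;> simp [tSign, tPerm]
  have hs : moveT (Pi.single j 1 : V8) = (tSign (tPerm j) : K) • (Pi.single (tPerm j) 1 : V8) := by
    funext k
    rw [hT]
    by_cases hk : k = tPerm j
    · subst hk
      rw [(hperm _ _).2 rfl]
      simp
    · rw [Pi.single_eq_of_ne (fun e => hk ((hperm _ _).1 e))]
      simp [hk]
  rw [← nact_single, nact_mul, nact_mul, S.nact_emb_theta, S.nact_emb_theta, hs, nact_smul, hT,
    Pi.smul_apply, nact_single,
    hv (tPerm i) (tPerm j) (by show -gr (tPerm i) ≤ -gr (tPerm j); rw [hgr, hgr]; omega)]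
  by_cases e : i = j
  · subst e; simp [hsg]
  · rw [if_neg (fun h => e (hinj _ _ h)), if_neg e]
    simp

theorem cent_radOp {Y : Matrix (Fin 2) (Fin 2) F} (h : P.Like Y) {v : S.N} (hv : v ∈ S.radOp)
    (hc : P.pos Y h.det_ne * v = v * P.pos Y h.det_ne) : v = 1 := by
  have tt : (S.emb theta : S.N) * S.emb theta = 1 := by rw [← map_mul, theta_mul_self, map_one]
  have hY : (P.pos Yᵀ h.transpose.det_ne)⁻¹ * (S.emb theta * v * S.emb theta) =
      (S.emb theta * v * S.emb theta) * (P.pos Yᵀ h.transpose.det_ne)⁻¹ := by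
    rw [← theta_pos h]
    calc S.emb theta * P.pos Y h.det_ne * S.emb theta * (S.emb theta * v * S.emb theta)
        = S.emb theta * (P.pos Y h.det_ne * ((S.emb theta * S.emb theta) * v)) * S.emb theta := by group
      _ = S.emb theta * (v * ((S.emb theta * S.emb theta) * P.pos Y h.det_ne)) * S.emb theta := by
          rw [tt, one_mul, one_mul, hc]
      _ = _ := by group
  have e : S.emb theta * v * S.emb theta = 1 := by
    refine cent_rad h.transpose (theta_conj_radOp hv) ?_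
    rw [inv_mul_eq_iff_eq_mul, ← mul_assoc, eq_mul_inv_iff_mul_eq] at hY
    exact hY.symm
  calc v = (S.emb theta * S.emb theta) * v * (S.emb theta * S.emb theta) := by rw [tt, one_mul, mul_one]
    _ = S.emb theta * (S.emb theta * v * S.emb theta) * S.emb theta := by group
    _ = 1 := by rw [e, mul_one, tt]

theorem exists_class {y : S.N} (hy : P.Cls y) : ∃ w : S.N, y = w * P.x * w⁻¹ := by
  obtain ⟨Y, h, hy⟩ := hy
  have base : ∀ {Y : Matrix (Fin 2) (Fin 2) F} (h : P.Like Y),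
      ∃ w : S.N, P.pos Y h.det_ne = w * P.x * w⁻¹ := by
    intro Y h
    obtain ⟨Q, hQ, e⟩ := exists_comp_conj Y fun c e => P.hsq (by
      rw [← h.1, ← h.2, e, det_fin_two, trace_fin_two]; simp; ring)
    rw [h.1, h.2] at e
    refine ⟨S.emb (iota Q hQ), ?_⟩
    rw [Para.x, Para.pos, Para.pos, iota_conj hQ h.det_ne P.comp_det_ne e, map_mul, map_mul, map_inv,
      ← mul_assoc (S.emb (iota Q hQ)) (S.tor P.c P.hc), ← tor_commute P.c P.hc Q hQ]
    group
  rcases hy with rfl | rfl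
  · exact base h
  · obtain ⟨w, hw⟩ := base h.transpose
    have tt : (S.emb theta : S.N)⁻¹ = S.emb theta := by rw [← map_inv, theta_inv]
    refine ⟨S.emb theta * w, ?_⟩
    have e := theta_pos h.transpose
    simp only [Matrix.transpose_transpose] at e
    rw [← e, hw, _root_.mul_inv_rev, tt]
    group

theorem cls_rad {y : S.N} (hy : P.Cls y) :
    (∀ w ∈ S.rad, y * w * y⁻¹ ∈ S.rad) ∧ (∀ w ∈ S.rad, y * w = w * y → w = 1) ∧
    (∀ w ∈ S.radOp, y * w * y⁻¹ ∈ S.radOp) ∧ (∀ w ∈ S.radOp, y * w = w * y → w = 1) := by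
  obtain ⟨Y, h, hy⟩ := hy
  have sw : ∀ w : S.N, (P.pos Y h.det_ne)⁻¹ * w = w * (P.pos Y h.det_ne)⁻¹ →
      P.pos Y h.det_ne * w = w * P.pos Y h.det_ne := fun w e => by
    rw [inv_mul_eq_iff_eq_mul, ← mul_assoc, eq_mul_inv_iff_mul_eq] at e
    exact e.symm
  rcases hy with rfl | rfl
  · exact ⟨fun w hw => NGraded.conj_rise (pos_graded _ _ _ (Or.inl rfl)) (pos_inv_graded _ _ _ (Or.inl rfl)) hw,
      fun w hw e => cent_rad h hw e,
      fun w hw => NGraded.conj_rise (pos_graded _ _ _ (Or.inr rfl)) (pos_inv_graded _ _ _ (Or.inr rfl)) hw,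
      fun w hw e => cent_radOp h hw e⟩
  · refine ⟨fun w hw => NGraded.conj_rise (pos_inv_graded _ _ _ (Or.inl rfl))
        (by rw [inv_inv]; exact pos_graded _ _ _ (Or.inl rfl)) hw,
      fun w hw e => cent_rad h hw (sw w e),
      fun w hw => NGraded.conj_rise (pos_inv_graded _ _ _ (Or.inr rfl))
        (by rw [inv_inv]; exact pos_graded _ _ _ (Or.inr rfl)) hw,
      fun w hw e => cent_radOp h hw (sw w e)⟩

/-- `v · ι X · u` is covered when `ι X` is a product of two class elements of the Levi factor. -/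
theorem cover_of_dec {X : Matrix (Fin 2) (Fin 2) F} (hX : X.det ≠ 0) {y z : S.N} (hy : P.Cls y)
    (hz : P.Cls z) (e : S.emb (iota X hX) = y * z) {v u : S.N} (hv : v ∈ S.radOp) (hu : u ∈ S.rad) :
    Cover P.x (v * S.emb (iota X hX) * u) := by
  obtain ⟨-, -, hn, hcn⟩ := cls_rad hy
  obtain ⟨hn', hc', -, -⟩ := cls_rad hz
  obtain ⟨a, ha⟩ := exists_class hy
  obtain ⟨b, hb⟩ := exists_class hz
  obtain ⟨w, -, hw⟩ := exists_conj_mul S.radOp y hn hcn hv
  obtain ⟨w', -, hw'⟩ := exists_conj_mul S.rad z hn' hc' (hn' u hu)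
  refine ⟨w * a, w' * b, ?_⟩
  have e1 : w * a * P.x * (w * a)⁻¹ = v * y := by rw [hw, ha]; group
  have e2 : w' * b * P.x * (w' * b)⁻¹ = z * u := by
    rw [show z * u = z * u * z⁻¹ * z by group, hw', hb]; group
  rw [e1, e2, e]
  group

theorem pos_inv_mul {Y Z : Matrix (Fin 2) (Fin 2) F} (hY : P.Like Y) (hZ : P.Like Z) {X : Matrix (Fin 2) (Fin 2) F}
    (hX : X.det ≠ 0) (e : Y * X = Z) :
    S.emb (iota X hX) = (P.pos Y hY.det_ne)⁻¹ * P.pos Z hZ.det_ne := by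
  rw [eq_inv_mul_iff_mul_eq, Para.pos, Para.pos, mul_assoc, ← map_mul, iota_mul]
  exact congrArg (fun g => S.tor P.c P.hc * S.emb g) (iota_congr e _)

end CfsgLib.KnownB.D4Square
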