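import Cfsg.Agent.Lib.KnownB.D4Square.Levi
import Cfsg.Agent.Lib.KnownB.D4Square.Frame
import Cfsg.Agent.Lib.KnownB.D4Square.Adjoint
import Cfsg.Agent.Lib.KnownB.G2Square.Main

/-!
# `³D₄(q)`: a semisimple class whose square covers all nontrivial elements
-/

set_option autoImplicit false
set_option maxHeartbeats 1000000

namespace CfsgLib.KnownB.D4Square

open Matrix Cfsg.Lie CfsgLib.KnownB.G2Square
open CfsgLib.KnownB.PSpFourSquare (Cover cover_of_conj exists_comp_conj det_comp trace_comp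
  trace_mul_comp Params exists_params_odd)

variable {F K : Type*} [Field F] [Field K] {S : Tw F K}

theorem two_eq_zero_iff (S : Tw F K) : (2 : F) = 0 ↔ (2 : K) = 0 := by
  constructor
  · intro h
    rw [← map_ofNat S.φ 2, h, map_zero]
  · intro h
    exact S.φ.injective (by rw [map_ofNat, map_zero, h])

theorem tor_one (S : Tw F K) (h : (1 : K) ≠ 0) : S.tor 1 h = 1 := by
  refine ext_nact fun x => ?_
  rw [S.nact_tor, twT_apply, nact_one]
  funext i
  fin_cases i <;> simp

/-- A factor from the class of the `G₂` criterion. -/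
theorem cls_of_inC [Fintype F] {P : Para S} {P₀ : Params F} (hδ : P.δ = P₀.δ) (hτ : P.τ = P₀.τ)
    (hc1 : P.c = 1) {Y : Matrix (Fin 2) (Fin 2) F} (h0 : Y.det ≠ 0)
    (hY : P₀.Like Y ∨ P₀.Like Y⁻¹) : P.Cls (S.emb (iota Y h0)) := by
  have hpos : ∀ (Z : Matrix (Fin 2) (Fin 2) F) (hZ : Z.det ≠ 0), P.pos Z hZ = S.emb (iota Z hZ) := by
    intro Z hZ
    obtain ⟨δ, τ, c, a1, a2, a3, a4, a5, a6, a7⟩ := P
    subst hc1
    rw [Para.pos, tor_one, one_mul]
  rcases hY with h | h
  · exact ⟨Y, ⟨by rw [hδ]; exact h.1, by rw [hτ]; exact h.2⟩, Or.inl (hpos _ _).symm⟩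
  · refine ⟨Y⁻¹, ⟨by rw [hδ]; exact h.1, by rw [hτ]; exact h.2⟩, Or.inr ?_⟩
    rw [hpos, ← map_inv, iota_inv, iota_congr (Matrix.nonsing_inv_nonsing_inv Y (isUnit_iff_ne_zero.2 h0))]

/-- In characteristic two a block of determinant one and nonzero trace is `Z⁻¹ Y`. -/
theorem exists_like_trace [Finite F] {P : Para S} (h2 : (2 : F) = 0)
    {X : Matrix (Fin 2) (Fin 2) F} (hd : X.det = 1) (ht : X.trace ≠ 0) :
    ∃ Y : Matrix (Fin 2) (Fin 2) F, P.Like Y ∧ P.Like (Y * X) := by
  haveI : CharP F 2 := CharTwo.of_one_ne_zero_of_two_eq_zero one_ne_zero h2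
  obtain ⟨Q, hQ, e⟩ := exists_comp_conj X (fun c e => ht (by
    rw [e, trace_fin_two]
    simp only [Matrix.smul_apply, Matrix.one_apply_eq, smul_eq_mul, mul_one]
    linear_combination c * h2))
  rw [hd] at e
  obtain ⟨c, hct⟩ : ∃ c : F, c * X.trace = P.τ := ⟨P.τ / X.trace, div_mul_cancel₀ _ ht⟩
  obtain ⟨a, ha⟩ := Finite.surjective_of_injective
    (f := fun x : F => x ^ 2) (fun x y h => CharTwo.sq_injective h)
    (P.δ + c * P.τ + c ^ 2 + P.τ ^ 2)
  simp only at ha
  obtain ⟨Z, hZd, hZt, hZX⟩ : ∃ Z : Matrix (Fin 2) (Fin 2) F, Z.det = P.δ ∧ Z.trace = P.τ ∧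
      (Z * PSpFourSquare.comp 1 X.trace).trace = P.τ :=
    ⟨!![a, P.τ + c - (P.τ - a) * X.trace; c, P.τ - a],
      by rw [det_fin_two_of]
         linear_combination (-1) * ha + (P.τ - a) * hct + (-(P.δ + c * P.τ + c ^ 2)) * h2,
      by simp [trace_fin_two], by rw [trace_mul_comp]; ring⟩
  have hQu : IsUnit Q.det := isUnit_iff_ne_zero.2 hQ
  have hY : P.Like (Q * Z * Q⁻¹) := by
    refine ⟨?_, ?_⟩
    · rw [Matrix.det_mul, Matrix.det_mul, Matrix.det_nonsing_inv, Ring.inverse_eq_inv', hZd]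
      field_simp
    · rw [Matrix.trace_mul_cycle, Matrix.nonsing_inv_mul _ hQu, Matrix.one_mul, hZt]
  refine ⟨_, hY, by rw [Matrix.det_mul, hY.1, hd, mul_one], ?_⟩
  rw [Matrix.mul_assoc, Matrix.trace_mul_comm, ← Matrix.mul_assoc, Matrix.mul_assoc Q⁻¹ X, e,
    ← Matrix.mul_assoc, Matrix.nonsing_inv_mul _ hQu, Matrix.one_mul, Matrix.trace_mul_comm, hZX]

variable [Fintype F] [Fintype K]

/-- Characteristic two: the cover, for any parameters. -/
theorem cover_even (P : Para S) (h2 : (2 : K) = 0) {g : S.N} (hg : ¬ IsScalar g) : Cover P.x g := by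
  haveI : CharP K 2 := CharTwo.of_one_ne_zero_of_two_eq_zero one_ne_zero h2
  have h2F := (two_eq_zero_iff S).2 h2
  haveI : CharP F 2 := CharTwo.of_one_ne_zero_of_two_eq_zero one_ne_zero h2F
  obtain ⟨k, h33, hnice⟩ := exists_nice h2 hg
  obtain ⟨v, u, X, hX, hv, hu, hgd, hdet, -⟩ := exists_dec S (k * g * k⁻¹) h33
  obtain ⟨⟨b11, b00⟩, b10, b01⟩ := block_of_dec S hgd hv hu hdet
  refine cover_of_conj k ?_
  rw [hgd]
  rw [← b11, ← b00, ← b10, ← b01] at hnice
  have hA : P.Like (PSpFourSquare.comp P.δ P.τ) := ⟨det_comp _ _, trace_comp _ _⟩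
  obtain ⟨Y, hY, hYX⟩ : ∃ Y : Matrix (Fin 2) (Fin 2) F, P.Like Y ∧ P.Like (Y * X) := by
    rcases hnice with ht | ⟨e10, e01, e⟩
    · refine exists_like_trace h2F hdet fun h => ht ?_
      rw [← map_add, add_comm, ← trace_fin_two X, h, map_zero]
    · rw [neg_eq_zero, map_eq_zero] at e10 e01
      have e' : X 1 1 = X 0 0 := S.φ.injective e
      have h1 : X 0 0 = 1 := by
        refine CharTwo.sq_injective (show (X 0 0) ^ 2 = (1 : F) ^ 2 from ?_)
        rw [det_fin_two, e10, e01, e'] at hdet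
        linear_combination hdet
      have hX1 : X = 1 := by
        ext i j
        fin_cases i <;> fin_cases j <;> simp [e10, e01, e', h1]
      exact ⟨_, hA, by rw [hX1, Matrix.mul_one]; exact hA⟩
  exact cover_of_dec hX (y := (P.pos Y hY.det_ne)⁻¹) (z := P.pos (Y * X) hYX.det_ne)
    ⟨Y, hY, Or.inr rfl⟩ ⟨Y * X, hYX, Or.inl rfl⟩ (pos_inv_mul hY hYX hX rfl) hv hu

/-- Odd characteristic: the cover. -/
theorem cover_odd (P : Para S) {P₀ : Params F} (hδ : P.δ = P₀.δ) (hτ : P.τ = P₀.τ)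
    (hc1 : P.c = 1) (h2 : (2 : F) ≠ 0) (hd0 : P₀.δ = -1) (ht0 : P₀.τ ≠ 0)
    {g : S.N} (hg : ¬ IsScalar g) : Cover P.x g := by
  obtain ⟨k, h33⟩ := exists_conj_one hg
  obtain ⟨v, u, X, hX, hv, hu, hgd, hdet, -⟩ := exists_dec S (k * g * k⁻¹) h33
  refine cover_of_conj k ?_
  rw [hgd]
  obtain ⟨Y, Z, ⟨hY0, hY⟩, ⟨hZ0, hZ⟩, hXYZ⟩ := good_det_one h2 hd0 ht0 X hdet
  exact cover_of_dec hX (cls_of_inC hδ hτ hc1 hY0 hY) (cls_of_inC hδ hτ hc1 hZ0 hZ)
    (by rw [← map_mul, iota_mul, iota_congr hXYZ]) hv hu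

/-- Parameters, the order of `x`, and the cover. -/
theorem exists_cover_tw (p : ℕ) [Fact p.Prime] [CharP K p] (S : Tw F K)
    (h4 : (2 : K) = 0 → ∀ z : K, z ^ 4 = z → S.σ z = z) (h8 : 3 ≤ Fintype.card K) :
    ∃ P : Para S, ¬ p ∣ orderOf P.x ∧ ∀ g : S.N, ¬ IsScalar g → Cover P.x g := by
  classical
  haveI hFp : CharP F p := (RingHom.charP_iff S.φ S.φ.injective p).2 ‹_›
  have hA : ∀ P : Para S, ¬ p ∣ orderOf (iota (PSpFourSquare.comp P.δ P.τ) P.comp_det_ne) →
      ¬ p ∣ orderOf P.x := by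
    intro P hA hp
    have hcom : Commute (S.tor P.c P.hc) (S.emb (iota (PSpFourSquare.comp P.δ P.τ) P.comp_det_ne)) :=
      tor_commute _ _ _ _
    have hT : S.tor P.c P.hc ^ (Fintype.card K - 1) = 1 := by
      have hpw : ∀ n : ℕ, ∀ x, nact (S.tor P.c P.hc ^ n) x =
          twT (P.c ^ n) (S.σ P.c ^ n) (S.σ (S.σ P.c) ^ n) x := by
        intro n
        induction n with
        | zero =>
          intro x
          rw [pow_zero, nact_one, twT_apply]
          funext i
          fin_cases i <;> simp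
        | succ n ih =>
          intro x
          rw [pow_succ, nact_mul, ih, S.nact_tor, twT_apply, twT_apply, twT_apply]
          funext i
          fin_cases i <;> simp [pow_succ] <;> ring
      refine ext_nact fun x => ?_
      have hc1 : S.σ P.c ≠ 0 := (map_ne_zero S.σ).2 P.hc
      rw [hpw, nact_one, twT_apply, FiniteField.pow_card_sub_one_eq_one _ P.hc,
        FiniteField.pow_card_sub_one_eq_one _ hc1,
        FiniteField.pow_card_sub_one_eq_one _ ((map_ne_zero S.σ).2 hc1)]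
      funext i
      fin_cases i <;> simp
    have hdiv : orderOf P.x ∣ (Fintype.card K - 1) *
        orderOf (iota (PSpFourSquare.comp P.δ P.τ) P.comp_det_ne) := by
      refine orderOf_dvd_of_pow_eq_one ?_
      rw [Para.x, Para.pos, hcom.mul_pow, pow_mul, hT, one_pow, one_mul, mul_comm (Fintype.card K - 1),
        pow_mul, ← map_pow, pow_orderOf_eq_one, map_one, one_pow]
    rcases (Fact.out : p.Prime).dvd_mul.1 (hp.trans hdiv) with h | h
    · obtain ⟨n, hn, hcard⟩ := FiniteField.card K p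
      have hpc : p ∣ Fintype.card K := hcard ▸ dvd_pow_self p n.ne_zero
      have h1 : p ∣ Fintype.card K - (Fintype.card K - 1) := Nat.dvd_sub hpc h
      rw [Nat.sub_sub_self (by omega)] at h1
      exact (Fact.out : p.Prime).ne_one (Nat.dvd_one.1 h1)
    · exact hA h
  by_cases h2 : (2 : F) = 0
  · have h2K := (two_eq_zero_iff S).1 h2
    haveI hK2 : CharP K 2 := CharTwo.of_one_ne_zero_of_two_eq_zero one_ne_zero h2K
    haveI hF2' : CharP F 2 := CharTwo.of_one_ne_zero_of_two_eq_zero one_ne_zero h2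
    obtain rfl : p = 2 := CharP.eq F hFp hF2'
    by_cases hF : 4 ≤ Fintype.card F
    · obtain ⟨P₀, hP₀⟩ := exists_fit_even h2 hF
      obtain ⟨f1, f2, f3⟩ := hP₀
      obtain ⟨P, e1, e2⟩ : ∃ P : Para S, P.δ = P₀.δ ∧ P.τ = P₀.τ := by
        refine ⟨⟨P₀.δ, P₀.τ, 1, P₀.hδ, P₀.hsq, one_ne_zero, ?_, ?_, ?_, ?_⟩, rfl, rfl⟩
        · rw [map_one, map_one, one_pow]
          exact fun e => f1 (S.φ.injective (by rw [map_one]; exact e.symm))
        · rw [map_one, one_pow]
          exact fun e => f1 (S.φ.injective (by rw [map_one]; exact e.symm))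
        · simp only [map_one, mul_one, one_mul, div_one, ← map_pow, ← map_mul, ← map_sub, ← map_add,
            ne_eq, map_eq_zero]
          intro e
          refine f2 ?_
          rcases mul_eq_zero.1 (show P₀.δ * (P₀.δ - P₀.τ + 1) = 0 by linear_combination e) with h | h
          · exact absurd h P₀.hδ
          · linear_combination -h
        · simp only [map_one, mul_one, one_mul, div_one, ← map_pow, ← map_mul, ← map_sub, ← map_add,
            ne_eq, map_eq_zero]
          intro e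
          refine f3 ?_
          rcases mul_eq_zero.1
            (show P₀.δ * (P₀.δ ^ 3 - P₀.τ * P₀.δ + 1) = 0 by linear_combination e) with h | h
          · exact absurd h P₀.hδ
          · linear_combination -h
      refine ⟨P, hA P ?_, fun g hg => cover_even P h2K hg⟩
      have := CfsgLib.KnownB.G2Square.not_dvd_orderOf P₀ 2
      rw [xEl] at this
      simpa only [e1, e2] using this
    · have hF2 : ∀ r : F, r = 0 ∨ r = 1 := fun r => by
        by_contra h
        push Not at h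
        have := FiniteField.even_card_iff_char_two.1 (ringChar.eq_iff.2 hF2')
        have h01 := Finset.card_le_univ ({0, 1, r} : Finset F)
        rw [Finset.card_insert_of_notMem (by simp [h.1.symm]),
          Finset.card_pair (Ne.symm h.2)] at h01
        omega
      obtain ⟨c, hc⟩ := Finset.exists_mem_notMem_of_card_lt_card (s := ({0, 1} : Finset K))
        (t := Finset.univ) (lt_of_le_of_lt Finset.card_le_two (by rw [Finset.card_univ]; omega))
      simp at hc
      obtain ⟨hc0, hc1⟩ := hc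
      have noroot : ∀ k : K, k ^ 2 - S.φ 1 * k + S.φ 1 ≠ 0 := fun k e => by
        rw [map_one, one_mul] at e
        obtain ⟨r, rfl⟩ := (S.fix k).1 (h4 h2K k (by linear_combination (k ^ 2 + k) * e - k * h2K))
        rcases hF2 r with rfl | rfl
        · simp at e
        · rw [map_one] at e
          exact one_ne_zero (show (1 : K) = 0 by linear_combination e)
      have hs : ∀ x : K, x ≠ 1 → S.σ x ≠ 1 := fun x hx e =>
        hx (S.σ.injective (by rw [e, map_one]))
      have hsq1 : ∀ x : K, x ≠ 1 → x ^ 2 ≠ S.φ 1 := fun x hx e => hx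
        (CharTwo.sq_injective (show x ^ 2 = (1 : K) ^ 2 by rw [e, map_one, one_pow]))
      obtain ⟨P, e1, e2⟩ : ∃ P : Para S, P.δ = 1 ∧ P.τ = 1 :=
        ⟨⟨1, 1, c, one_ne_zero, fun e => one_ne_zero (show (1 : F) = 0 by
            linear_combination e + 2 * h2), hc0, hsq1 _ (hs _ (hs _ hc1)), hsq1 _ (hs _ hc1),
          noroot _, noroot _⟩, rfl, rfl⟩
      refine ⟨P, hA P ?_, fun g hg => cover_even P h2K hg⟩
      have h3 : iota (PSpFourSquare.comp P.δ P.τ) P.comp_det_ne ^ 3 = 1 := by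
        rw [pow_three, iota_mul, iota_mul, ← iota_one]
        refine iota_congr ?_ _
        rw [e1, e2]
        ext i j
        fin_cases i <;> fin_cases j <;>
          simp [PSpFourSquare.comp, Matrix.mul_apply, Fin.sum_univ_two, CharTwo.add_self_eq_zero,
            CharTwo.neg_eq]
      intro hp
      exact absurd (hp.trans (orderOf_dvd_of_pow_eq_one h3)) (by decide)
  · obtain ⟨P₀, hd, ht⟩ := exists_params_odd h2
    have h2K : (2 : K) ≠ 0 := fun e => h2 ((two_eq_zero_iff S).2 e)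
    obtain ⟨P, e1, e2, e3⟩ : ∃ P : Para S, P.δ = P₀.δ ∧ P.τ = P₀.τ ∧ P.c = 1 := by
      refine ⟨⟨P₀.δ, P₀.τ, 1, P₀.hδ, P₀.hsq, one_ne_zero, ?_, ?_, ?_, ?_⟩, rfl, rfl, rfl⟩
      · rw [map_one, map_one, one_pow, hd, map_neg, map_one]
        exact fun e => h2K (by linear_combination e)
      · rw [map_one, one_pow, hd, map_neg, map_one]
        exact fun e => h2K (by linear_combination e)
      · simp only [map_one, mul_one, one_mul, div_one, hd, map_neg]
        exact fun e => ht (S.φ.injective (by rw [map_zero]; linear_combination e))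
      · simp only [map_one, mul_one, one_mul, div_one, hd, map_neg]
        exact fun e => ht (S.φ.injective (by rw [map_zero]; linear_combination -e))
    refine ⟨P, hA P ?_, fun g hg => cover_odd P e1 e2 e3 h2 hd ht hg⟩
    have := CfsgLib.KnownB.G2Square.not_dvd_orderOf P₀ p
    rw [xEl] at this
    simpa only [e1, e2] using this

/-- The class in `³D₄(q)`. -/
theorem exists_cover_d4 {K : Type*} [Field K] [Fintype K] (p : ℕ) [Fact p.Prime] [CharP K p]
    (q : ℕ) (hq : IsPrimePow q) (hK : Fintype.card K = q ^ 3) :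
    ∃ x : ↥(twistedD4 K q), ¬ p ∣ orderOf x ∧ ∀ g : ↥(twistedD4 K q), g ≠ 1 →
      ∃ u v : ↥(twistedD4 K q), g = (u * x * u⁻¹) * (v * x * v⁻¹) := by
  obtain ⟨n, hn⟩ : ∃ n, q = p ^ n := by
    obtain ⟨N, -, hN⟩ := FiniteField.card K p
    obtain ⟨n, -, hn⟩ := (Nat.dvd_prime_pow (Fact.out : p.Prime)).1
      (show q ∣ p ^ (N : ℕ) by rw [← hN, hK]; exact dvd_pow_self q three_ne_zero)
    exact ⟨n, hn⟩
  obtain ⟨σ, hσ⟩ : ∃ σ : K →+* K, ∀ x, σ x = x ^ q ^ 2 :=
    ⟨iterateFrobenius K p (n * 2), fun x => by rw [iterateFrobenius_def, hn, ← pow_mul]⟩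
  let S : Tw ↥(σ.eqLocusField (RingHom.id K)) K :=
    { φ := (σ.eqLocusField (RingHom.id K)).subtype
      σ := σ
      cube := fun x => by
        rw [hσ, hσ, hσ, ← pow_mul, ← pow_mul, show q ^ 2 * (q ^ 2 * q ^ 2) = q ^ 3 * q ^ 3 by ring,
          pow_mul, ← hK, FiniteField.pow_card, FiniteField.pow_card]
      fix := fun x => ⟨fun h => ⟨⟨x, h⟩, rfl⟩, fun ⟨r, hr⟩ => hr ▸ r.2⟩ }
  haveI : Fintype ↥(σ.eqLocusField (RingHom.id K)) := Fintype.ofFinite _
  have h4 : (2 : K) = 0 → ∀ z : K, z ^ 4 = z → S.σ z = z := fun h2 z hz => by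
    have hp : p = 2 := by
      have := (CharP.cast_eq_zero_iff K p 2).1 (by exact_mod_cast h2)
      exact (Nat.prime_dvd_prime_iff_eq Fact.out Nat.prime_two).1 this
    show σ z = z
    rw [hσ, hn, hp, ← pow_mul, mul_comm, pow_mul]
    clear hn
    induction n with
    | zero => simp
    | succ m ih => rw [pow_succ, pow_mul, ih, show (2 ^ 2 : ℕ) = 4 by norm_num, hz]
  have h8 : 3 ≤ Fintype.card K := by
    have := Nat.pow_le_pow_left hq.two_le 3
    omega
  obtain ⟨P, hord, hP⟩ := exists_cover_tw p S h4 h8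
  refine ⟨adjHom (S := S) hσ hK hq P.x, fun h => hord (h.trans (orderOf_map_dvd _ _)), fun g hg => ?_⟩
  obtain ⟨h, rfl⟩ := adjHom_surjective (S := S) hσ hK hq g
  obtain ⟨u, v, huv⟩ := hP h fun ⟨c, hc⟩ => not_scalar_of_adjHom_ne hσ hK hq hg c hc
  exact ⟨adjHom hσ hK hq u, adjHom hσ hK hq v, by simp only [huv, map_mul, map_inv]⟩

end CfsgLib.KnownB.D4Square
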