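import Cfsg.Agent.Lib.KnownB.G2Square.Levi

/-!
# A twisted triality model of `³D₄`

With `σ` a field automorphism of order three fixing `φ(F)`, the group of norm preserving `g` with
`g (x ⋆ y) = σ(g) x ⋆ σσ(g) y`, `x ⋆ y = x̄ ȳ` in Zorn's algebra. It contains the copy of `G₂(F)` and the
twisted root elements `tA₀ t`, `tB₀ t` (`t ∈ K`).
-/

set_option autoImplicit false
set_option maxHeartbeats 1000000

namespace CfsgLib.KnownB.D4Square

open Matrix Cfsg.Lie CfsgLib.NormalCover CfsgLib.KnownB.G2Square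

/-- A cubic extension given by a field embedding and an automorphism. -/
structure Tw (F K : Type*) [Field F] [Field K] where
  φ : F →+* K
  σ : K →+* K
  cube : ∀ x, σ (σ (σ x)) = x
  fix : ∀ x, σ x = x ↔ x ∈ φ.range

variable {F K : Type*} [Field F] [Field K] (S : Tw F K)

local notation "V8" => Fin 8 → K

theorem Tw.σφ (a : F) : S.σ (S.φ a) = S.φ a := (S.fix _).2 ⟨a, rfl⟩

/-- Conjugation of Zorn's algebra. -/
def zConj {R : Type*} [Field R] (x : Fin 8 → R) : Fin 8 → R :=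
  ![x 7, -x 1, -x 2, -x 3, -x 4, -x 5, -x 6, x 0]

/-- The symmetric composition `x̄ ȳ`. -/
def star' {R : Type*} [Field R] (x y : Fin 8 → R) : Fin 8 → R := zornMul (zConj x) (zConj y)

/-- Entrywise image of a vector. -/
def Tw.vs (x : V8) : V8 := S.σ ∘ x

theorem Tw.vs_single (j : Fin 8) : S.vs (Pi.single j 1 : V8) = Pi.single j 1 := by
  funext i
  rcases eq_or_ne i j with rfl | h <;> simp [Tw.vs, *]

theorem Tw.vs_mulVec (M : Matrix (Fin 8) (Fin 8) K) (x : V8) : S.vs (M *ᵥ x) = M.map S.σ *ᵥ S.vs x := by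
  funext i; exact RingHom.map_mulVec S.σ M x i

theorem Tw.vs_smul (c : K) (x : V8) : S.vs (c • x) = S.σ c • S.vs x := by
  funext i; simp [Tw.vs]

/-- The defining condition. -/
def Tw.Rel (g : GL (Fin 8) K) : Prop :=
  (∀ x y, (g : Matrix (Fin 8) (Fin 8) K) *ᵥ star' x y =
    star' ((g : Matrix (Fin 8) (Fin 8) K).map S.σ *ᵥ x)
      (((g : Matrix (Fin 8) (Fin 8) K).map S.σ).map S.σ *ᵥ y)) ∧
  ∀ x, zNm ((g : Matrix (Fin 8) (Fin 8) K) *ᵥ x) = zNm x

/-- The group. -/
def Tw.grp : Subgroup (GL (Fin 8) K) where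
  carrier := {g | S.Rel g}
  mul_mem' {g h} hg hh := by
    refine ⟨fun x y => ?_, fun x => ?_⟩
    · rw [Units.val_mul, ← mulVec_mulVec, hh.1, hg.1, Matrix.map_mul, Matrix.map_mul, mulVec_mulVec,
        mulVec_mulVec]
    · rw [Units.val_mul, ← mulVec_mulVec, hg.2, hh.2]
  one_mem' := ⟨fun x y => by simp [Matrix.map_one], fun x => by simp⟩
  inv_mem' {g} hg := by
    have e1 : (g : Matrix (Fin 8) (Fin 8) K) * ((g⁻¹ : GL (Fin 8) K) : Matrix (Fin 8) (Fin 8) K) = 1 := by
      rw [← Units.val_mul, mul_inv_cancel, Units.val_one]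
    have e2 : ((g⁻¹ : GL (Fin 8) K) : Matrix (Fin 8) (Fin 8) K) * (g : Matrix (Fin 8) (Fin 8) K) = 1 := by
      rw [← Units.val_mul, inv_mul_cancel, Units.val_one]
    have e1' : (g : Matrix (Fin 8) (Fin 8) K).map S.σ *
        ((g⁻¹ : GL (Fin 8) K) : Matrix (Fin 8) (Fin 8) K).map S.σ = 1 := by
      rw [← Matrix.map_mul, e1, Matrix.map_one _ S.σ.map_zero S.σ.map_one]
    have e1'' : ((g : Matrix (Fin 8) (Fin 8) K).map S.σ).map S.σ *
        (((g⁻¹ : GL (Fin 8) K) : Matrix (Fin 8) (Fin 8) K).map S.σ).map S.σ = 1 := by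
      rw [← Matrix.map_mul, e1', Matrix.map_one _ S.σ.map_zero S.σ.map_one]
    refine ⟨fun x y => ?_, fun x => ?_⟩
    · have h := hg.1 (((g⁻¹ : GL (Fin 8) K) : Matrix (Fin 8) (Fin 8) K).map S.σ *ᵥ x)
        ((((g⁻¹ : GL (Fin 8) K) : Matrix (Fin 8) (Fin 8) K).map S.σ).map S.σ *ᵥ y)
      rw [mulVec_mulVec, mulVec_mulVec, e1', e1'', one_mulVec, one_mulVec] at h
      rw [← h, mulVec_mulVec, e2, one_mulVec]
    · rw [← hg.2, mulVec_mulVec, e1, one_mulVec]

/-- The model. -/
abbrev Tw.N : Type _ := ↥S.grp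

variable {S}

/-- The matrix of an element. -/
abbrev nmat (g : S.N) : Matrix (Fin 8) (Fin 8) K := ((g : GL (Fin 8) K) : Matrix (Fin 8) (Fin 8) K)

/-- The action. -/
def nact (g : S.N) (x : V8) : V8 := nmat g *ᵥ x

theorem nact_mul (g h : S.N) (x : V8) : nact (g * h) x = nact g (nact h x) :=
  (mulVec_mulVec x (nmat g) (nmat h)).symm

theorem nact_one (x : V8) : nact (1 : S.N) x = x := one_mulVec x

theorem nact_inv (g : S.N) (x : V8) : nact g⁻¹ (nact g x) = x := by
  rw [← nact_mul, inv_mul_cancel, nact_one]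

theorem nact_inv_of_eq {k : S.N} {x y : V8} (h : nact k y = x) : nact k⁻¹ x = y := by
  rw [← h, nact_inv]

theorem nact_smul (g : S.N) (c : K) (x : V8) : nact g (c • x) = c • nact g x := mulVec_smul _ c x

theorem nact_add (g : S.N) (x y : V8) : nact g (x + y) = nact g x + nact g y := mulVec_add _ x y

theorem nact_zero (g : S.N) : nact g (0 : V8) = 0 := mulVec_zero _

theorem nact_injective (g : S.N) : Function.Injective (nact g) :=
  Function.LeftInverse.injective (g := nact g⁻¹) (nact_inv g)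

theorem nact_single (g : S.N) (i j : Fin 8) : nact g (Pi.single j 1) i = nmat g i j := by
  simp [nact]

theorem nact_nm (g : S.N) (x : V8) : zNm (nact g x) = zNm x := g.2.2 x

theorem nact_pol (g : S.N) (x y : V8) : zPol (nact g x) (nact g y) = zPol x y := by
  have h := nact_nm g (x + y)
  rw [nact_add, zNm_add, zNm_add, nact_nm, nact_nm] at h
  exact add_left_cancel h

theorem ext_nact {g h : S.N} (e : ∀ x, nact g x = nact h x) : g = h :=
  Subtype.ext (Units.ext (Matrix.ext_iff_mulVec.2 e))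

theorem nmat_mul (g h : S.N) : nmat (g * h) = nmat g * nmat h := rfl

theorem nact_star (g : S.N) (x y : V8) :
    nact g (star' x y) = star' ((nmat g).map S.σ *ᵥ x) (((nmat g).map S.σ).map S.σ *ᵥ y) := g.2.1 x y

/-- The basic identity on twisted pairs. -/
theorem nact_pair (g : S.N) (x y : V8) :
    nact g (star' (S.vs x) (S.vs (S.vs y))) = star' (S.vs (nact g x)) (S.vs (S.vs (nact g y))) := by
  rw [nact_star, nact, nact, S.vs_mulVec, S.vs_mulVec, S.vs_mulVec]

/-- Points of the hexagon. -/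
def Tw.Pt (S : Tw F K) (w : V8) : Prop := zNm w = 0 ∧ star' (S.vs w) (S.vs (S.vs w)) = 0

theorem Tw.Pt.map {w : V8} (h : S.Pt w) (g : S.N) : S.Pt (nact g w) :=
  ⟨by rw [nact_nm, h.1], by rw [← nact_pair, h.2, nact_zero]⟩

theorem Tw.Pt.smul {w : V8} (h : S.Pt w) (c : K) : S.Pt (c • w) := by
  refine ⟨?_, ?_⟩
  · have := h.1
    simp [zNm] at this ⊢
    linear_combination c * c * this
  · funext i
    have := congrFun h.2 i
    fin_cases i <;> simp [star', zConj, zornMul, dot3, cross3, Tw.vs] at this ⊢ <;>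
      linear_combination S.σ c * S.σ (S.σ c) * this

variable (S)

/-- The copy of `G₂(F)`. -/
noncomputable def Tw.emb : G2G F →* S.N where
  toFun g := ⟨Matrix.GeneralLinearGroup.map S.φ (g : GL (Fin 8) F), by
    have hg := map_mem_g2 S.φ g.2
    have hm : ((Matrix.GeneralLinearGroup.map S.φ (g : GL (Fin 8) F) : GL (Fin 8) K) :
        Matrix (Fin 8) (Fin 8) K).map S.σ =
        ((Matrix.GeneralLinearGroup.map S.φ (g : GL (Fin 8) F) : GL (Fin 8) K) :
          Matrix (Fin 8) (Fin 8) K) := by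
      ext i j; exact S.σφ _
    refine ⟨fun x y => ?_, fun x => (g2_tr_nm hg x).2⟩
    rw [hm, hm, star', star', g2_mul hg]
    have hc : ∀ z : V8, ((Matrix.GeneralLinearGroup.map S.φ (g : GL (Fin 8) F) : GL (Fin 8) K) :
        Matrix (Fin 8) (Fin 8) K) *ᵥ zConj z =
        zConj (((Matrix.GeneralLinearGroup.map S.φ (g : GL (Fin 8) F) : GL (Fin 8) K) :
        Matrix (Fin 8) (Fin 8) K) *ᵥ z) := fun z => by
      have e : ∀ z : V8, zConj z = zTr z • zOne - z := fun z => by
        funext i; fin_cases i <;> simp [zConj, zTr, zOne]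
      rw [e, e, mulVec_sub, mulVec_smul, g2_one hg, (g2_tr_nm hg z).1]
    rw [hc, hc]⟩
  map_one' := Subtype.ext (by
    show Matrix.GeneralLinearGroup.map S.φ (1 : GL (Fin 8) F) = 1
    exact map_one _)
  map_mul' g h := Subtype.ext (by
    show Matrix.GeneralLinearGroup.map S.φ ((g : GL (Fin 8) F) * (h : GL (Fin 8) F)) = _
    rw [map_mul]; rfl)

theorem Tw.nmat_emb (g : G2G F) : nmat (S.emb g) = (mat g).map S.φ := rfl

theorem Tw.nact_emb_gS (A : Matrix.SpecialLinearGroup (Fin 3) F) (x : V8) :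
    nact (S.emb (gS A)) x = moveS ((A : Matrix (Fin 3) (Fin 3) F).map S.φ) x := by
  have h : Matrix.toLin' (nmat (S.emb (gS A))) = moveS ((A : Matrix (Fin 3) (Fin 3) F).map S.φ) := by
    refine (Pi.basisFun K (Fin 8)).ext fun j => ?_
    funext i
    rw [Pi.basisFun_apply, Matrix.toLin'_apply]
    show nact (S.emb (gS A)) (Pi.single j 1) i = _
    rw [nact_single, S.nmat_emb, Matrix.map_apply, ← act_single, act_gS]
    fin_cases j <;> fin_cases i <;> simp [moveS]
  exact LinearMap.congr_fun h x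

/-- The exchange of the halves. -/
theorem Tw.nact_emb_theta (x : V8) : nact (S.emb theta) x = moveT x := by
  have h : Matrix.toLin' (nmat (S.emb (theta : G2G F))) = moveT := by
    refine (Pi.basisFun K (Fin 8)).ext fun j => ?_
    funext i
    rw [Pi.basisFun_apply, Matrix.toLin'_apply]
    show nact (S.emb (theta : G2G F)) (Pi.single j 1) i = _
    rw [nact_single, S.nmat_emb, Matrix.map_apply, ← act_single, act_theta]
    fin_cases j <;> fin_cases i <;> simp [moveT]
  exact LinearMap.congr_fun h x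

/-- A short root automorphism with three parameters. -/
def twA {R : Type*} [Field R] (p r s : R) : (Fin 8 → R) →ₗ[R] Fin 8 → R where
  toFun x := ![x 0 + p * x 4, x 1 + (p * x 7 - r * x 0 - p * r * x 4), x 2, x 3, x 4, x 5 + s * x 3,
    x 6 - s * x 2, x 7 - r * x 4]
  map_add' x y := by funext i; fin_cases i <;> simp <;> ring
  map_smul' c x := by funext i; fin_cases i <;> simp <;> ring

/-- The opposite short root automorphism with three parameters. -/
def twB {R : Type*} [Field R] (p r s : R) : (Fin 8 → R) →ₗ[R] Fin 8 → R where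
  toFun x := ![x 0 + p * x 1, x 1, x 2 + s * x 6, x 3 - s * x 5,
    x 4 - (r * x 0 - p * x 7 + p * r * x 1), x 5, x 6, x 7 - r * x 1]
  map_add' x y := by funext i; fin_cases i <;> simp <;> ring
  map_smul' c x := by funext i; fin_cases i <;> simp <;> ring

/-- A diagonal automorphism. -/
def twT {R : Type*} [Field R] (a b d : R) : (Fin 8 → R) →ₗ[R] Fin 8 → R :=
  Matrix.toLin' (Matrix.diagonal ![d * b⁻¹, a⁻¹, a⁻¹, b * d, a, a, b⁻¹ * d⁻¹, b * d⁻¹])

theorem twT_apply {R : Type*} [Field R] (a b d : R) (x : Fin 8 → R) :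
    twT a b d x = ![d * b⁻¹ * x 0, a⁻¹ * x 1, a⁻¹ * x 2, b * d * x 3, a * x 4, a * x 5,
      b⁻¹ * d⁻¹ * x 6, b * d⁻¹ * x 7] := by
  funext i
  rw [twT, Matrix.toLin'_apply, Matrix.mulVec_diagonal]
  fin_cases i <;> rfl

theorem twA_star {R : Type*} [Field R] (a b c : R) (x y : Fin 8 → R) :
    twA c b a (star' x y) = star' (twA a c b x) (twA b a c y) := by
  funext i
  fin_cases i <;> simp [twA, star', zConj, zornMul, dot3, cross3] <;> ring

theorem twB_star {R : Type*} [Field R] (a b c : R) (x y : Fin 8 → R) :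
    twB b c a (star' x y) = star' (twB c a b x) (twB a b c y) := by
  funext i
  fin_cases i <;> simp [twB, star', zConj, zornMul, dot3, cross3] <;> ring

theorem twT_star {R : Type*} [Field R] {a b c : R} (ha : a ≠ 0) (hb : b ≠ 0) (hc : c ≠ 0)
    (x y : Fin 8 → R) : twT a b c (star' x y) = star' (twT b c a x) (twT c a b y) := by
  obtain ⟨ai, hai⟩ : ∃ ai, ai = a⁻¹ := ⟨_, rfl⟩
  obtain ⟨bi, hbi⟩ : ∃ bi, bi = b⁻¹ := ⟨_, rfl⟩
  obtain ⟨ci, hci⟩ : ∃ ci, ci = c⁻¹ := ⟨_, rfl⟩
  have ea : a * ai = 1 := by rw [hai]; exact mul_inv_cancel₀ ha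
  have eb : b * bi = 1 := by rw [hbi]; exact mul_inv_cancel₀ hb
  have ec : c * ci = 1 := by rw [hci]; exact mul_inv_cancel₀ hc
  rw [twT_apply, twT_apply, twT_apply, ← hai, ← hbi, ← hci]
  funext i
  fin_cases i <;> simp [star', zConj, zornMul, dot3, cross3] <;> grind

variable {S}

theorem exists_elt (f f1 f2 : V8 →ₗ[K] V8) (hi : Function.Injective f)
    (h1 : ∀ j i, f1 (Pi.single j 1) i = S.σ (f (Pi.single j 1) i))
    (h2 : ∀ j i, f2 (Pi.single j 1) i = S.σ (f1 (Pi.single j 1) i))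
    (hs : ∀ x y, f (star' x y) = star' (f1 x) (f2 y)) (hn : ∀ x, zNm (f x) = zNm x) :
    ∃ g : S.N, ∀ x, nact g x = f x := by
  let e := LinearEquiv.ofInjectiveEndo f hi
  have hinv : ∀ (a b : V8 →ₗ[K] V8), (∀ v, a (b v) = v) →
      LinearMap.toMatrix' a * LinearMap.toMatrix' b = 1 := fun a b h => by
    rw [← LinearMap.toMatrix'_comp, show a.comp b = LinearMap.id from LinearMap.ext h,
      LinearMap.toMatrix'_id]
  let g : GL (Fin 8) K := ⟨LinearMap.toMatrix' (e : V8 →ₗ[K] V8),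
    LinearMap.toMatrix' (e.symm : V8 →ₗ[K] V8),
    hinv _ _ fun v => e.apply_symm_apply v, hinv _ _ fun v => e.symm_apply_apply v⟩
  have hg : ∀ x, (g : Matrix (Fin 8) (Fin 8) K) *ᵥ x = f x := fun x => LinearMap.toMatrix'_mulVec _ x
  have col : ∀ (M : Matrix (Fin 8) (Fin 8) K) (l : V8 →ₗ[K] V8),
      (∀ j i, l (Pi.single j 1) i = M i j) → ∀ x, M *ᵥ x = l x := fun M l h x => by
    have e : Matrix.toLin' M = l := by
      refine (Pi.basisFun K (Fin 8)).ext fun j => ?_
      funext i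
      simp [h]
    exact LinearMap.congr_fun e x
  have c0 : ∀ i j, (g : Matrix (Fin 8) (Fin 8) K) i j = f (Pi.single j 1) i := fun i j => by
    rw [← hg]; simp
  have g1 := col ((g : Matrix (Fin 8) (Fin 8) K).map S.σ) f1 fun j i => by
    rw [h1, Matrix.map_apply, c0]
  have g2 := col (((g : Matrix (Fin 8) (Fin 8) K).map S.σ).map S.σ) f2 fun j i => by
    rw [h2, h1, Matrix.map_apply, Matrix.map_apply, c0]
  exact ⟨⟨g, fun x y => by rw [hg, g1, g2, hs], fun x => by rw [hg, hn]⟩, hg⟩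

theorem exists_tA (S : Tw F K) (t : K) :
    ∃ g : S.N, ∀ x, nact g x = twA (S.σ (S.σ t)) (S.σ t) t x := by
  refine exists_elt _ (twA t (S.σ (S.σ t)) (S.σ t)) (twA (S.σ t) t (S.σ (S.σ t))) ?_ ?_ ?_
    (twA_star t (S.σ t) (S.σ (S.σ t))) ?_
  · refine Function.LeftInverse.injective (g := twA (-(S.σ (S.σ t))) (-(S.σ t)) (-t)) fun x => ?_
    funext i
    fin_cases i <;> simp [twA] <;> ring
  · intro j i
    fin_cases j <;> fin_cases i <;> simp [twA, S.cube]
  · intro j i
    fin_cases j <;> fin_cases i <;> simp [twA, S.cube]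
  · intro x
    simp [twA, zNm]
    ring

theorem exists_tB (S : Tw F K) (t : K) :
    ∃ g : S.N, ∀ x, nact g x = twB (S.σ t) (S.σ (S.σ t)) t x := by
  refine exists_elt _ (twB (S.σ (S.σ t)) t (S.σ t)) (twB t (S.σ t) (S.σ (S.σ t))) ?_ ?_ ?_
    (twB_star t (S.σ t) (S.σ (S.σ t))) ?_
  · refine Function.LeftInverse.injective (g := twB (-(S.σ t)) (-(S.σ (S.σ t))) (-t)) fun x => ?_
    funext i
    fin_cases i <;> simp [twB] <;> ring
  · intro j i
    fin_cases j <;> fin_cases i <;> simp [twB, S.cube]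
  · intro j i
    fin_cases j <;> fin_cases i <;> simp [twB, S.cube]
  · intro x
    simp [twB, zNm]
    ring

theorem exists_tor (S : Tw F K) {c : K} (hc : c ≠ 0) :
    ∃ g : S.N, ∀ x, nact g x = twT c (S.σ c) (S.σ (S.σ c)) x := by
  have h1 : S.σ c ≠ 0 := (map_ne_zero S.σ).2 hc
  have h2 : S.σ (S.σ c) ≠ 0 := (map_ne_zero S.σ).2 h1
  refine exists_elt _ (twT (S.σ c) (S.σ (S.σ c)) c) (twT (S.σ (S.σ c)) c (S.σ c)) ?_ ?_ ?_
    (twT_star hc h1 h2) ?_
  · refine Function.LeftInverse.injective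
      (g := twT c⁻¹ (S.σ c)⁻¹ (S.σ (S.σ c))⁻¹) fun x => ?_
    rw [twT_apply, twT_apply]
    funext i
    fin_cases i <;> simp <;> field_simp
  · intro j i
    rw [twT_apply, twT_apply]
    fin_cases j <;> fin_cases i <;> simp [S.cube]
  · intro j i
    rw [twT_apply, twT_apply]
    fin_cases j <;> fin_cases i <;> simp [S.cube]
  · intro x
    rw [twT_apply]
    simp [zNm]
    field_simp

variable (S)

/-- The twisted root element of the first axis. -/
noncomputable def Tw.tA0 (t : K) : S.N := (exists_tA S t).choose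

/-- The twisted root element of the first dual axis. -/
noncomputable def Tw.tB0 (t : K) : S.N := (exists_tB S t).choose

/-- The central torus of the Levi factor. -/
noncomputable def Tw.tor (c : K) (hc : c ≠ 0) : S.N := (exists_tor S hc).choose

theorem Tw.nact_tA0 (t : K) (x : V8) : nact (S.tA0 t) x = twA (S.σ (S.σ t)) (S.σ t) t x :=
  (exists_tA S t).choose_spec x

theorem Tw.nact_tB0 (t : K) (x : V8) : nact (S.tB0 t) x = twB (S.σ t) (S.σ (S.σ t)) t x :=
  (exists_tB S t).choose_spec x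

theorem Tw.nact_tor (c : K) (hc : c ≠ 0) (x : V8) :
    nact (S.tor c hc) x = twT c (S.σ c) (S.σ (S.σ c)) x :=
  (exists_tor S hc).choose_spec x

/-- The cyclic permutation matrix. -/
def cycMat (F : Type*) [Field F] : Matrix.SpecialLinearGroup (Fin 3) F :=
  ⟨!![0, 0, 1; 1, 0, 0; 0, 1, 0], by simp [det_fin_three]⟩

/-- The cyclic permutation of the axes. -/
noncomputable def Tw.cyc : S.N := S.emb (gS (cycMat F))

theorem Tw.nact_cyc (x : V8) :
    nact S.cyc x = ![x 0, x 3, x 1, x 2, x 6, x 4, x 5, x 7] := by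
  rw [Tw.cyc, S.nact_emb_gS]
  funext i
  fin_cases i <;> simp [moveS, cycMat]

theorem Tw.nact_cyc_inv (x : V8) :
    nact S.cyc⁻¹ x = ![x 0, x 2, x 3, x 1, x 5, x 6, x 4, x 7] :=
  nact_inv_of_eq (by rw [S.nact_cyc]; funext i; fin_cases i <;> simp)

/-- The twisted root element of the second axis. -/
noncomputable def Tw.tA1 (t : K) : S.N := S.cyc * S.tA0 t * S.cyc⁻¹

/-- The twisted root element of the third axis. -/
noncomputable def Tw.tA2 (t : K) : S.N := S.cyc * S.tA1 t * S.cyc⁻¹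

/-- The twisted root element of the second dual axis. -/
noncomputable def Tw.tB1 (t : K) : S.N := S.cyc * S.tB0 t * S.cyc⁻¹

/-- The twisted root element of the third dual axis. -/
noncomputable def Tw.tB2 (t : K) : S.N := S.cyc * S.tB1 t * S.cyc⁻¹

theorem Tw.nact_tA1 (t : K) (x : V8) :
    nact (S.tA1 t) x = ![x 0 + S.σ (S.σ t) * x 5, x 1,
      x 2 + (S.σ (S.σ t) * x 7 - S.σ t * x 0 - S.σ (S.σ t) * S.σ t * x 5), x 3,
      x 4 - t * x 3, x 5, x 6 + t * x 1, x 7 - S.σ t * x 5] := by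
  rw [Tw.tA1, nact_mul, nact_mul, S.nact_cyc_inv, S.nact_tA0, S.nact_cyc]
  funext i
  fin_cases i <;> simp [twA]

theorem Tw.nact_tA2 (t : K) (x : V8) :
    nact (S.tA2 t) x = ![x 0 + S.σ (S.σ t) * x 6, x 1, x 2,
      x 3 + (S.σ (S.σ t) * x 7 - S.σ t * x 0 - S.σ (S.σ t) * S.σ t * x 6),
      x 4 + t * x 2, x 5 - t * x 1, x 6, x 7 - S.σ t * x 6] := by
  rw [Tw.tA2, nact_mul, nact_mul, S.nact_cyc_inv, S.nact_tA1, S.nact_cyc]
  funext i
  fin_cases i <;> simp

theorem Tw.nact_tB1 (t : K) (x : V8) :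
    nact (S.tB1 t) x = ![x 0 + S.σ t * x 2, x 1 - t * x 6, x 2, x 3 + t * x 4, x 4,
      x 5 - (S.σ (S.σ t) * x 0 - S.σ t * x 7 + S.σ t * S.σ (S.σ t) * x 2), x 6,
      x 7 - S.σ (S.σ t) * x 2] := by
  rw [Tw.tB1, nact_mul, nact_mul, S.nact_cyc_inv, S.nact_tB0, S.nact_cyc]
  funext i
  fin_cases i <;> simp [twB]

theorem Tw.nact_tB2 (t : K) (x : V8) :
    nact (S.tB2 t) x = ![x 0 + S.σ t * x 3, x 1 + t * x 5, x 2 - t * x 4, x 3, x 4, x 5,
      x 6 - (S.σ (S.σ t) * x 0 - S.σ t * x 7 + S.σ t * S.σ (S.σ t) * x 3),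
      x 7 - S.σ (S.σ t) * x 3] := by
  rw [Tw.tB2, nact_mul, nact_mul, S.nact_cyc_inv, S.nact_tB1, S.nact_cyc]
  funext i
  fin_cases i <;> simp

/-! ### The subgroup generated by the four families -/

/-- The subgroup generated by the simple root subgroups and their opposites. -/
noncomputable def Tw.moved : Subgroup S.N :=
  Subgroup.closure {g | (∃ t : K, g = S.tA0 t ∨ g = S.tB0 t) ∨
    ∃ t : F, g = S.emb (gS (Matrix.SpecialLinearGroup.transvection
        (show (0 : Fin 3) ≠ 1 by decide) t)) ∨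
      g = S.emb (gS (Matrix.SpecialLinearGroup.transvection (show (1 : Fin 3) ≠ 0 by decide) t))}

theorem Tw.tA0_mem (t : K) : S.tA0 t ∈ S.moved := Subgroup.subset_closure (Or.inl ⟨t, Or.inl rfl⟩)

theorem Tw.tB0_mem (t : K) : S.tB0 t ∈ S.moved := Subgroup.subset_closure (Or.inl ⟨t, Or.inr rfl⟩)

end CfsgLib.KnownB.D4Square
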