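import Cfsg.Agent.Lib.KnownB.D4Square.Model

/-!
# Root subgroups, generation helpers and the two unipotent radicals of the model
-/

set_option autoImplicit false
set_option maxHeartbeats 1000000

namespace CfsgLib.KnownB.D4Square

open Matrix Cfsg.Lie CfsgLib.NormalCover CfsgLib.KnownB.G2Square
open scoped commutatorElement

variable {F K : Type*} [Field F] [Field K] (S : Tw F K)

local notation "V8" => Fin 8 → K

/-- The short simple reflection. -/
noncomputable def Tw.wShort : S.N := S.tB0 1 * S.tA0 1 * S.tB0 1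

theorem Tw.nact_wShort (x : V8) :
    nact S.wShort x = ![x 7, -x 4, x 6, -x 5, -x 1, x 3, -x 2, x 0] := by
  rw [Tw.wShort, nact_mul, nact_mul, S.nact_tB0, S.nact_tA0, S.nact_tB0]
  funext i
  fin_cases i <;> simp [twA, twB] <;> ring

theorem Tw.wShort_conj (t : F) :
    S.wShort * S.emb (gS (Matrix.SpecialLinearGroup.transvection
        (show (0 : Fin 3) ≠ 1 by decide) t)) * S.wShort⁻¹ =
      S.emb (gS (Matrix.SpecialLinearGroup.transvection (show (2 : Fin 3) ≠ 0 by decide) (-t))) ∧
    S.wShort * S.emb (gS (Matrix.SpecialLinearGroup.transvection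
        (show (1 : Fin 3) ≠ 0 by decide) t)) * S.wShort⁻¹ =
      S.emb (gS (Matrix.SpecialLinearGroup.transvection (show (0 : Fin 3) ≠ 2 by decide) (-t))) := by
  constructor <;>
  · rw [mul_inv_eq_iff_eq_mul]
    refine ext_nact fun x => ?_
    rw [nact_mul, nact_mul, S.nact_wShort, S.nact_wShort, S.nact_emb_gS, S.nact_emb_gS]
    funext i
    fin_cases i <;>
      simp [moveS, Matrix.SpecialLinearGroup.transvection_coe, Matrix.single_apply,
        Matrix.one_apply] <;> ring

theorem Tw.emb_gS_mem (A : Matrix.SpecialLinearGroup (Fin 3) F) : S.emb (gS A) ∈ S.moved := by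
  let H : Subgroup (Matrix.SpecialLinearGroup (Fin 3) F) := S.moved.comap (S.emb.comp gS)
  have h01 : ∀ t, Matrix.SpecialLinearGroup.transvection (show (0 : Fin 3) ≠ 1 by decide) t ∈ H :=
    fun t => Subgroup.mem_comap.2 (Subgroup.subset_closure (Or.inr ⟨t, Or.inl rfl⟩))
  have h10 : ∀ t, Matrix.SpecialLinearGroup.transvection (show (1 : Fin 3) ≠ 0 by decide) t ∈ H :=
    fun t => Subgroup.mem_comap.2 (Subgroup.subset_closure (Or.inr ⟨t, Or.inr rfl⟩))
  have hw : S.wShort ∈ S.moved := mul_mem (mul_mem (S.tB0_mem 1) (S.tA0_mem 1)) (S.tB0_mem 1)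
  have h20 : ∀ t, Matrix.SpecialLinearGroup.transvection (show (2 : Fin 3) ≠ 0 by decide) t ∈ H := by
    intro t
    have h := mul_mem (mul_mem hw (Subgroup.mem_comap.1 (h01 (-t)))) (inv_mem hw)
    rw [MonoidHom.comp_apply, (S.wShort_conj (-t)).1, neg_neg] at h
    exact Subgroup.mem_comap.2 h
  have h02 : ∀ t, Matrix.SpecialLinearGroup.transvection (show (0 : Fin 3) ≠ 2 by decide) t ∈ H := by
    intro t
    have h := mul_mem (mul_mem hw (Subgroup.mem_comap.1 (h10 (-t)))) (inv_mem hw)
    rw [MonoidHom.comp_apply, (S.wShort_conj (-t)).2, neg_neg] at h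
    exact Subgroup.mem_comap.2 h
  have hcomm : ∀ a b : Matrix.SpecialLinearGroup (Fin 3) F, a ∈ H → b ∈ H → ⁅a, b⁆ ∈ H :=
    fun a b ha hb => by
      rw [commutatorElement_def]
      exact mul_mem (mul_mem (mul_mem ha hb) (inv_mem ha)) (inv_mem hb)
  have h12 : ∀ t, Matrix.SpecialLinearGroup.transvection (show (1 : Fin 3) ≠ 2 by decide) t ∈ H := by
    intro t
    have h := hcomm _ _ (h10 t) (h02 1)
    rwa [CfsgLib.Classical.commutator_transvection_transvection _ _
      (show (1 : Fin 3) ≠ 2 by decide), mul_one] at h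
  have h21 : ∀ t, Matrix.SpecialLinearGroup.transvection (show (2 : Fin 3) ≠ 1 by decide) t ∈ H := by
    intro t
    have h := hcomm _ _ (h20 t) (h01 1)
    rwa [CfsgLib.Classical.commutator_transvection_transvection _ _
      (show (2 : Fin 3) ≠ 1 by decide), mul_one] at h
  have hH : H = ⊤ := CfsgLib.Classical.sl_transvection_induction _ fun i j hij t => by
    fin_cases i <;> fin_cases j
    · exact absurd rfl hij
    · exact h01 t
    · exact h02 t
    · exact h10 t
    · exact absurd rfl hij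
    · exact h12 t
    · exact h20 t
    · exact h21 t
    · exact absurd rfl hij
  exact Subgroup.mem_comap.1 (show A ∈ H from hH ▸ Subgroup.mem_top A)

theorem Tw.cyc_mem : S.cyc ∈ S.moved := S.emb_gS_mem _

theorem Tw.tA1_mem (t : K) : S.tA1 t ∈ S.moved :=
  mul_mem (mul_mem S.cyc_mem (S.tA0_mem t)) (inv_mem S.cyc_mem)

theorem Tw.tA2_mem (t : K) : S.tA2 t ∈ S.moved :=
  mul_mem (mul_mem S.cyc_mem (S.tA1_mem t)) (inv_mem S.cyc_mem)

theorem Tw.tB1_mem (t : K) : S.tB1 t ∈ S.moved :=
  mul_mem (mul_mem S.cyc_mem (S.tB0_mem t)) (inv_mem S.cyc_mem)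

theorem Tw.tB2_mem (t : K) : S.tB2 t ∈ S.moved :=
  mul_mem (mul_mem S.cyc_mem (S.tB1_mem t)) (inv_mem S.cyc_mem)

/-! ### Radicals -/

variable {S}

/-- Strictly raising elements of the model. -/
def NRises (d : Fin 8 → ℤ) (g : S.N) : Prop :=
  ∀ i j, d i ≤ d j → nmat g i j = if i = j then 1 else 0

/-- Grading preserving elements of the model. -/
def NGraded (d : Fin 8 → ℤ) (g : S.N) : Prop := ∀ i j, d i ≠ d j → nmat g i j = 0

theorem NRises.mul {d : Fin 8 → ℤ} {g h : S.N} (hg : NRises d g) (hh : NRises d h) :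
    NRises d (g * h) := by
  intro i j hij
  rw [nmat_mul, Matrix.mul_apply, Finset.sum_eq_single j]
  · rw [hh j j le_rfl, if_pos rfl, mul_one, hg i j hij]
  · intro k _ hk
    by_cases hkj : d k ≤ d j
    · rw [hh k j hkj, if_neg hk, mul_zero]
    · rw [hg i k (by omega), if_neg (by rintro rfl; omega), zero_mul]
  · simp

theorem NRises.one (d : Fin 8 → ℤ) : NRises d (1 : S.N) := fun _ _ _ => Matrix.one_apply

theorem NRises.pow {d : Fin 8 → ℤ} {g : S.N} (hg : NRises d g) : ∀ n : ℕ, NRises d (g ^ n)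
  | 0 => by rw [pow_zero]; exact NRises.one d
  | n + 1 => by rw [pow_succ]; exact (hg.pow n).mul hg

variable (S)

/-- The subgroup of strictly raising elements. -/
def Tw.rise [Finite K] (d : Fin 8 → ℤ) : Subgroup S.N where
  carrier := {g | NRises d g}
  mul_mem' := NRises.mul
  one_mem' := NRises.one d
  inv_mem' {g} hg := by
    have hp := orderOf_pos g
    have : g⁻¹ = g ^ (orderOf g - 1) := inv_eq_of_mul_eq_one_right (by
      rw [← pow_succ', Nat.sub_add_cancel hp, pow_orderOf_eq_one])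
    show NRises d g⁻¹
    rw [this]
    exact NRises.pow hg _

/-- The unipotent radical. -/
abbrev Tw.rad [Finite K] : Subgroup S.N := S.rise gr

/-- The opposite radical. -/
abbrev Tw.radOp [Finite K] : Subgroup S.N := S.rise (fun i => -gr i)

variable {S}

theorem NGraded.conj_rise [Finite K] {d : Fin 8 → ℤ} {l u : S.N} (hl : NGraded d l)
    (hl' : NGraded d l⁻¹) (hu : u ∈ S.rise d) : l * u * l⁻¹ ∈ S.rise d := by
  intro i j hij
  rw [nmat_mul, nmat_mul, Matrix.mul_apply]
  have e : ∀ k, nmat l⁻¹ k j ≠ 0 → (nmat l * nmat u) i k = nmat l i k := by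
    intro k hk
    have hkj : d k = d j := by by_contra h; exact hk (hl' k j h)
    rw [Matrix.mul_apply, Finset.sum_eq_single k]
    · rw [hu k k le_rfl, if_pos rfl, mul_one]
    · intro m _ hm
      by_cases him : d i = d m
      · rw [hu m k (by omega), if_neg hm, mul_zero]
      · rw [hl i m him, zero_mul]
    · simp
  calc ∑ k, (nmat l * nmat u) i k * nmat l⁻¹ k j = ∑ k, nmat l i k * nmat l⁻¹ k j := by
        refine Finset.sum_congr rfl fun k _ => ?_
        by_cases hk : nmat l⁻¹ k j = 0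
        · rw [hk, mul_zero, mul_zero]
        · rw [e k hk]
    _ = _ := by rw [← Matrix.mul_apply, ← nmat_mul, mul_inv_cancel]; exact Matrix.one_apply

theorem NRises.of_nact {d : Fin 8 → ℤ} {g : S.N}
    (h : ∀ i j : Fin 8, d i ≤ d j → nact g (Pi.single j 1) i = if i = j then 1 else 0) :
    NRises d g := fun i j hij => by rw [← nact_single]; exact h i j hij

variable (S) [Finite K]

theorem Tw.emb_rad [Finite F] {g : G2G F} (hg : g ∈ G2Square.rad F) : S.emb g ∈ S.rad := by
  intro i j h
  rw [S.nmat_emb, Matrix.map_apply, hg i j h]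
  split_ifs <;> simp

theorem Tw.emb_radOp [Finite F] {g : G2G F} (hg : g ∈ G2Square.radOp F) : S.emb g ∈ S.radOp := by
  intro i j h
  rw [S.nmat_emb, Matrix.map_apply, hg i j h]
  split_ifs <;> simp

theorem Tw.tB0_rad (t : K) : S.tB0 t ∈ S.rad := NRises.of_nact fun i j h => by
  rw [S.nact_tB0]; fin_cases i <;> fin_cases j <;> simp_all [gr, twB]

theorem Tw.tB1_rad (t : K) : S.tB1 t ∈ S.rad := NRises.of_nact fun i j h => by
  rw [S.nact_tB1]; fin_cases i <;> fin_cases j <;> simp_all [gr]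

theorem Tw.tA2_rad (t : K) : S.tA2 t ∈ S.rad := NRises.of_nact fun i j h => by
  rw [S.nact_tA2]; fin_cases i <;> fin_cases j <;> simp_all [gr]

theorem Tw.tA0_radOp (t : K) : S.tA0 t ∈ S.radOp := NRises.of_nact fun i j h => by
  rw [S.nact_tA0]; fin_cases i <;> fin_cases j <;> simp_all [gr, twA]

theorem Tw.tA1_radOp (t : K) : S.tA1 t ∈ S.radOp := NRises.of_nact fun i j h => by
  rw [S.nact_tA1]; fin_cases i <;> fin_cases j <;> simp_all [gr]

theorem Tw.tB2_radOp (t : K) : S.tB2 t ∈ S.radOp := NRises.of_nact fun i j h => by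
  rw [S.nact_tB2]; fin_cases i <;> fin_cases j <;> simp_all [gr]

theorem Tw.nact_rad_eTop {u : S.N} (hu : u ∈ S.rad) : nact u (eTop : V8) = eTop := by
  funext i
  rw [eTop_single, nact_single, hu i 3 (by fin_cases i <;> decide), Pi.single_apply]

theorem Tw.nact_conj_rad {u g : S.N} (hu : u ∈ S.rad) :
    nact (u * g * u⁻¹) (eTop : V8) = nact u (nact g eTop) := by
  rw [nact_mul, nact_mul, S.nact_rad_eTop (inv_mem hu)]

theorem Tw.pt_eTop : S.Pt (eTop : V8) := by
  refine ⟨by simp [zNm, eTop], ?_⟩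
  funext i
  fin_cases i <;> simp [star', zConj, zornMul, dot3, cross3, Tw.vs, eTop]

theorem Tw.pt_eBot : S.Pt (eBot : V8) := by
  refine ⟨by simp [zNm, eBot], ?_⟩
  funext i
  fin_cases i <;> simp [star', zConj, zornMul, dot3, cross3, Tw.vs, eBot]

end CfsgLib.KnownB.D4Square
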